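import Groth.Agent.Lib.AgPol22.Subscheme
import Groth.Agent.Lib.AgPol22.Separated
import Groth.Agent.Lib.LimH13.ArrowModel
import Groth.Agent.S7788
import Groth.Agent.S19476

/-!
# The closed subscheme over which a module comes from a Poincaré class
-/

universe u

open CategoryTheory CategoryTheory.Limits MonoidalCategory CartesianMonoidalCategory AlgebraicGeometry

open scoped MonObj GrpObj

set_option backward.isDefEq.respectTransparency false
set_option linter.style.haveILetI false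
set_option maxHeartbeats 1000000
set_option synthInstance.maxHeartbeats 200000

noncomputable section

namespace Groth.Agent.AgPol22

open Groth.Agent.AbDual21 Groth.Agent.PicDesc21 Groth.Agent.DiagGL

noncomputable local instance instLawAgPolClosed (Y : Scheme.{u}) : PicGrp.Law Y := M2.law Y

variable {S S₁ S₂ : Scheme.{u}} {A At : Over S} [GrpObj A] [GrpObj At]

theorem map_powId (β : S₁ ⟶ S) (n : ℕ) :
    (Over.pullback β).map (𝟙 A ^ n) = (𝟙 (Red.bc β A) ^ n : Red.bc β A ⟶ Red.bc β A) := by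
  refine fl_injective β A ?_
  rw [show (Over.pullback β).map (𝟙 A ^ n) = 𝟙 (Red.bc β A) ≫ (Over.pullback β).map (𝟙 A ^ n) from
    (Category.id_comp _).symm, fl_comp_map, fl_pow, comp_powMap]

theorem isPullback_powId (β : S₁ ⟶ S) (n : ℕ) :
    IsPullback (pullback.fst A.hom β) (𝟙 (Red.bc β A) ^ n : Red.bc β A ⟶ Red.bc β A).left (𝟙 A ^ n).left
      (pullback.fst A.hom β) := by
  rw [← map_powId]
  refine IsPullback.of_bot (h₃₁ := β) (v₂₁ := pullback.snd A.hom β) (v₂₂ := A.hom) ?_ ?_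
    (IsPullback.of_hasPullback A.hom β)
  · rw [Over.w (𝟙 A ^ n)]
    have e : ((Over.pullback β).map (𝟙 A ^ n)).left ≫ pullback.snd A.hom β = pullback.snd A.hom β :=
      Over.w ((Over.pullback β).map (𝟙 A ^ n))
    rw [e]
    exact IsPullback.of_hasPullback A.hom β
  · simp only [Over.pullback_map_left]
    exact (pullback.lift_fst _ _ _).symm

/-- The comparison of the base changes along a factorisation. -/
def bcCmp (i : S₁ ⟶ S) (β : S₂ ⟶ S) (l : S₂ ⟶ S₁) (hl : l ≫ i = β) :
    (Over.map β).obj (Red.bc β A) ⟶ (Over.map i).obj (Red.bc i A) :=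
  Over.homMk (pullback.lift (pullback.fst A.hom β) (pullback.snd A.hom β ≫ l)
    (by rw [Category.assoc, hl]; exact pullback.condition)) (by
      show pullback.lift _ _ _ ≫ pullback.snd A.hom i ≫ i = pullback.snd A.hom β ≫ β
      rw [pullback.lift_snd_assoc, Category.assoc, hl])

theorem bcCmp_fl_id (i : S₁ ⟶ S) (β : S₂ ⟶ S) (l : S₂ ⟶ S₁) (hl : l ≫ i = β) :
    bcCmp i β l hl ≫ fl i A (𝟙 (Red.bc i A)) = fl β A (𝟙 (Red.bc β A)) := by
  apply Over.OverMorphism.ext
  rw [Over.comp_left, fl_left, fl_left]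
  simp [bcCmp]

theorem isPullback_bcCmp (i : S₁ ⟶ S) (β : S₂ ⟶ S) (l : S₂ ⟶ S₁) (hl : l ≫ i = β) :
    IsPullback (bcCmp (A := A) i β l hl).left (pullback.snd A.hom β) (pullback.snd A.hom i) l := by
  refine IsPullback.of_right (h₁₂ := pullback.fst A.hom i) (v₁₃ := A.hom) (h₂₂ := i) ?_ ?_
    (IsPullback.of_hasPullback A.hom i)
  · rw [hl, show (bcCmp (A := A) i β l hl).left ≫ pullback.fst A.hom i = pullback.fst A.hom β from
      pullback.lift_fst _ _ _]
    exact IsPullback.of_hasPullback A.hom β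
  · exact pullback.lift_snd _ _ _

/-- Roots of the base changes of a homomorphism are compatible. -/
theorem bcCmp_fl_root (i : S₁ ⟶ S) (β : S₂ ⟶ S) (l : S₂ ⟶ S₁) (hl : l ≫ i = β) (n : ℕ)
    [Flat (𝟙 A ^ n).left] [Surjective (𝟙 A ^ n).left] [QuasiCompact (𝟙 A ^ n).left] (f : A ⟶ At)
    (m₁ : Red.bc i A ⟶ Red.bc i At) [IsMonHom m₁] (h₁ : m₁ ^ n = (Over.pullback i).map f)
    (m : Red.bc β A ⟶ Red.bc β At) [IsMonHom m] (h : m ^ n = (Over.pullback β).map f) :
    bcCmp i β l hl ≫ fl i At m₁ = fl β At m := by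
  let c := bcCmp (A := A) i β l hl
  have hq : ∀ {X : Scheme.{u}} (θ : X ⟶ S) (r : Red.bc θ A ⟶ Red.bc θ At) [IsMonHom r],
      (Over.map θ).map (𝟙 (Red.bc θ A) ^ n) ≫ fl θ At r = fl θ At (r ^ n) := fun θ r _ => by
    rw [← fl_comp, MonObj.pow_comp, Category.id_comp]
  have hf : ∀ {X : Scheme.{u}} (θ : X ⟶ S), fl θ At ((Over.pullback θ).map f) = fl θ A (𝟙 _) ≫ f := fun θ => by
    rw [← fl_comp_map, Category.id_comp]
  have hc : (Over.map β).map (𝟙 (Red.bc β A) ^ n) ≫ c = c ≫ (Over.map i).map (𝟙 (Red.bc i A) ^ n) := by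
    apply Over.OverMorphism.ext
    apply pullback.hom_ext
    · have e : ((Over.map β).map (𝟙 (Red.bc β A) ^ n) ≫ c) ≫ fl i A (𝟙 _) =
          (c ≫ (Over.map i).map (𝟙 (Red.bc i A) ^ n)) ≫ fl i A (𝟙 _) := by
        rw [Category.assoc, Category.assoc, bcCmp_fl_id, ← fl_comp, ← fl_comp, Category.comp_id, Category.comp_id,
          fl_pow, fl_pow, MonObj.comp_pow, bcCmp_fl_id]
      have e' := congrArg Over.Hom.left e
      simpa [fl_left] using e'
    · simp only [Over.comp_left, Over.map_map_left, Category.assoc]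
      have e₁ : c.left ≫ pullback.snd A.hom i = pullback.snd A.hom β ≫ l := pullback.lift_snd _ _ _
      have e₂ : (𝟙 (Red.bc i A) ^ n).left ≫ pullback.snd A.hom i = pullback.snd A.hom i := Over.w (𝟙 (Red.bc i A) ^ n)
      have e₃ : (𝟙 (Red.bc β A) ^ n).left ≫ pullback.snd A.hom β = pullback.snd A.hom β := Over.w (𝟙 (Red.bc β A) ^ n)
      rw [e₁, reassoc_of% e₃]
      exact (e₁.symm).trans (congrArg (c.left ≫ ·) e₂.symm)
  have e : (Over.map β).map (𝟙 (Red.bc β A) ^ n) ≫ (c ≫ fl i At m₁) =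
      (Over.map β).map (𝟙 (Red.bc β A) ^ n) ≫ fl β At m := by
    rw [← Category.assoc, hc, Category.assoc, hq, hq, h₁, h, hf, hf, ← Category.assoc, bcCmp_fl_id]
  haveI : Flat (𝟙 (Red.bc β A) ^ n : Red.bc β A ⟶ _).left := MorphismProperty.of_isPullback (isPullback_powId β n) ‹_›
  haveI : Surjective (𝟙 (Red.bc β A) ^ n : Red.bc β A ⟶ _).left :=
    MorphismProperty.of_isPullback (isPullback_powId β n) ‹_›
  haveI : QuasiCompact (𝟙 (Red.bc β A) ^ n : Red.bc β A ⟶ _).left :=
    MorphismProperty.of_isPullback (isPullback_powId β n) ‹_›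
  apply Over.OverMorphism.ext
  rw [← cancel_epi (𝟙 (Red.bc β A) ^ n : Red.bc β A ⟶ _).left]
  exact congrArg Over.Hom.left e

variable [IsCommMonObj A] [IsCommMonObj At]
  {φ : AgPol.DualMap A At} {ξ : PicF.Cl (PicF.XT A.hom At)}

/-- The difference of the pullback of `L` and the class of the graph of a power. -/
def diffCl (hξ : AbDual.IsPoincareCl A At φ ξ) {L : A.left.Modules} (hL : PicF.IsInvertible L) (β : S₁ ⟶ S)
    (k : ℕ) (m : Red.bc β A ⟶ Red.bc β At) : PicLoc.PicSet ((Over.map β).obj (Red.bc β A)).left :=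
  Seesaw22.cls L hL (fl β A (𝟙 _)) * (ev hξ (fl β A (𝟙 _)) (fl β At m ^ k))⁻¹

theorem diffCl_eq_one_iff (hξ : AbDual.IsPoincareCl A At φ ξ) {L : A.left.Modules} (hL : PicF.IsInvertible L)
    (β : S₁ ⟶ S) (k : ℕ) (m : Red.bc β A ⟶ Red.bc β At) :
    diffCl hξ hL β k m = 1 ↔
      PicF.cl ((Scheme.Modules.pullback (pullback.fst A.hom β)).obj L) =
        PicF.pullCl (pullback.lift (𝟙 (Red.bc β A).left) (m ^ k).left
          ((Category.id_comp (Red.bc β A).hom).trans (Over.w (m ^ k)).symm))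
        (PicF.pullCl ((AgPol.bcXTIso β A (Red.bc β At)).hom ≫
          PicF.XTmap A.hom (Over.homMk (pullback.fst At.hom β) pullback.condition)) ξ) := by
  have ea : (Seesaw22.cls L hL (fl β A (𝟙 (Red.bc β A)))).1 =
      PicF.cl ((Scheme.Modules.pullback (pullback.fst A.hom β)).obj L) := by
    show PicF.cl ((Scheme.Modules.pullback (fl β A (𝟙 (Red.bc β A))).left).obj L) = _
    rw [fl_left]
    exact congrArg (fun g : pullback A.hom β ⟶ A.left => PicF.cl ((Scheme.Modules.pullback g).obj L))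
      (Category.id_comp (pullback.fst A.hom β))
  have eb : (ev hξ (fl β A (𝟙 (Red.bc β A))) (fl β At m ^ k)).1 =
      PicF.pullCl (pullback.lift (𝟙 (Red.bc β A).left) (m ^ k).left
          ((Category.id_comp (Red.bc β A).hom).trans (Over.w (m ^ k)).symm))
        (PicF.pullCl ((AgPol.bcXTIso β A (Red.bc β At)).hom ≫
          PicF.XTmap A.hom (Over.homMk (pullback.fst At.hom β) pullback.condition)) ξ) := by
    rw [pullCl_pullCl, ev, PicGrp.pullHom_apply_val]
    refine congrArg (PicF.pullCl · ξ) ?_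
    apply pullback.hom_ext
    · refine (congrArg Over.Hom.left (lift_fst (fl β A (𝟙 (Red.bc β A))) (fl β At m ^ k))).trans ?_
      simp [fl_left, AgPol.bcXTIso, PicF.XTmap]
      exact (Category.id_comp (pullback.fst A.hom β)).symm
    · refine (congrArg Over.Hom.left (lift_snd (fl β A (𝟙 (Red.bc β A))) (fl β At m ^ k))).trans ?_
      rw [← fl_pow]
      simp [fl_left, AgPol.bcXTIso, PicF.XTmap]
  rw [diffCl, mul_inv_eq_one, Subtype.ext_iff, ea, eb]

theorem diffCl_rigid (hξ : AbDual.IsPoincareCl A At φ ξ) {L : A.left.Modules} (hL : PicF.IsInvertible L)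
    (hrig : PicF.IsTrivialCl (PicF.cl ((Scheme.Modules.pullback η[A].left).obj L))) (β : S₁ ⟶ S)
    (k : ℕ) (m : Red.bc β A ⟶ Red.bc β At) [IsMonHom m] :
    pb ((Over.map β).map η[Red.bc β A]) (diffCl hξ hL β k m) = 1 := by
  have h1 : η[Red.bc β A] = (1 : 𝟙_ (Over S₁) ⟶ Red.bc β A) := by
    rw [Hom.one_def, toUnit_unit, Category.id_comp]
  have ex : (Over.map β).map η[Red.bc β A] ≫ fl β A (𝟙 _) = 1 := by
    rw [← fl_comp, Category.comp_id, h1, fl_one]
  have ey : (Over.map β).map η[Red.bc β A] ≫ fl β At m = 1 := by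
    rw [← fl_comp, h1, MonObj.one_comp, fl_one]
  rw [diffCl, map_mul, map_inv, Seesaw22.pullHom_cls, pb_ev, MonObj.comp_pow, ex, ey, _root_.one_pow, ev_one_left,
    inv_one, _root_.mul_one]
  have h0 : Seesaw22.cls L hL η[A] = 1 := Subtype.ext (hrig.trans (PicGrp.one_val).symm)
  rw [Hom.one_def, ← Seesaw22.pullHom_cls, h0, map_one]

variable [IsProper A.hom] [Smooth A.hom] [GeometricallyConnected A.hom]

/-- The subscheme over which `L` is a Poincaré class of a power is closed. -/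
theorem exists_closed [IsLocallyNoetherian S] (g : ℕ) (hdim : ∀ s : S, topologicalKrullDim ↥(A.hom.fiber s) = g)
    (hX : AbDual.IsDualAV Scheme.fppfPrecoverage A At φ) (hξ : AbDual.IsPoincareCl A At φ ξ)
    (L : A.left.Modules) (hL : PicF.IsInvertible L)
    (hrig : PicF.IsTrivialCl (PicF.cl ((Scheme.Modules.pullback η[A].left).obj L))) (k : ℕ) (hk : 1 ≤ k) :
    ∃ (S₀ : Scheme.{u}) (i₀ : S₀ ⟶ S), IsClosedImmersion i₀ ∧
      ∀ T : Over S, IsLocallyNoetherian T.left →
        ((∃ h : T.left ⟶ S₀, h ≫ i₀ = T.hom) ↔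
          ∃ lam : Red.bc T.hom A ⟶ Red.bc T.hom At, IsMonHom lam ∧
            AgPol.IsLambda (Red.bc T.hom A) (Red.bc T.hom At) (AgPol.bcDual T.hom A At φ)
              ((Scheme.Modules.pullback (pullback.fst A.hom T.hom)).obj L) (lam ^ (2 * k)) ∧
            PicF.cl ((Scheme.Modules.pullback (pullback.fst A.hom T.hom)).obj L) =
              PicF.pullCl (pullback.lift (𝟙 (Red.bc T.hom A).left) (lam ^ k).left
                ((Category.id_comp (Red.bc T.hom A).hom).trans (Over.w (lam ^ k)).symm))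
              (PicF.pullCl ((AgPol.bcXTIso T.hom A (Red.bc T.hom At)).hom ≫
                PicF.XTmap A.hom (Over.homMk (pullback.fst At.hom T.hom) pullback.condition)) ξ)) := by
  haveI := PicSep22.geometricallyIntegral_of_smooth A.hom
  haveI := AbRigid.geometricallyReduced_of_smooth A.hom
  haveI : LocallyOfFinitePresentation A.hom := inferInstance
  haveI : IsSeparated At.hom := isSeparated A hX
  -- the homomorphism attached to the module
  obtain ⟨N, hN, hNe⟩ := PicGrp.exists_eq_cls (Seesaw22.cls L hL μ[A] * (Seesaw22.cls L hL (fst A A))⁻¹ *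
    (Seesaw22.cls L hL (snd A A))⁻¹)
  have hs : AgPol.IsLambdaSheaf (μ[A].left : PicF.XT A.hom A ⟶ A.left) (fst A A).left (snd A A).left L N := by
    have h : (PicGrp.cls N hN : PicLoc.PicSet (A ⊗ A).left) * Seesaw22.cls L hL (fst A A) *
        Seesaw22.cls L hL (snd A A) = Seesaw22.cls L hL μ[A] := by
      rw [← hNe, mul_right_comm _ (Seesaw22.cls L hL (snd A A))⁻¹ (Seesaw22.cls L hL (fst A A)),
        inv_mul_cancel_right, inv_mul_cancel_right]
    have h' := congrArg Subtype.val h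
    simp only [Seesaw22.cls, PicGrp.mul_val, PicGrp.cls_val, PicGrp.mulCl_cl] at h'
    exact (PicGrp.cl_eq_cl_iff _ _).1 h'
  set f := φ A (PicF.cl N) with hfdef
  haveI : IsMonHom f := isMonHom_phi hX hL hN hs
  -- multiplication
  let n := 2 * k
  obtain ⟨hfin, hflat, hsurj, -⟩ := S7788.result A (fun _ => g) hdim ((n : ℕ) : ℤ) (by omega)
  rw [zpow_natCast] at hfin hflat hsurj
  haveI := hfin; haveI := hflat; haveI := hsurj
  haveI : IsLocallyNoetherian A.left := LocallyOfFiniteType.isLocallyNoetherian A.hom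
  haveI : LocallyOfFinitePresentation (𝟙 A ^ n).left := LimH13.locallyOfFinitePresentation_of_noetherian _
  obtain ⟨Z, i, hi, hZ⟩ := exists_killsOver n f
  haveI := hi
  haveI : IsLocallyNoetherian Z := LocallyOfFiniteType.isLocallyNoetherian i
  have hroot : ∀ {X : Scheme.{u}} (θ : X ⟶ S), (∃ l : X ⟶ Z, l ≫ i = θ) →
      ∃ m : Red.bc θ A ⟶ Red.bc θ At, IsMonHom m ∧ m ^ n = (Over.pullback θ).map f := fun {X} θ hθ => by
    haveI : IsMonHom ((Over.pullback θ).map f : Red.bc θ A ⟶ Red.bc θ At) := inferInstance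
    haveI : IsCommMonObj (Red.bc θ A) := inferInstance
    haveI : IsCommMonObj (Red.bc θ At) := inferInstance
    haveI : Flat (𝟙 (Red.bc θ A) ^ n : Red.bc θ A ⟶ _).left := MorphismProperty.of_isPullback (isPullback_powId θ n) hflat
    haveI : Surjective (𝟙 (Red.bc θ A) ^ n : Red.bc θ A ⟶ _).left :=
      MorphismProperty.of_isPullback (isPullback_powId θ n) hsurj
    haveI : QuasiCompact (𝟙 (Red.bc θ A) ^ n : Red.bc θ A ⟶ _).left :=
      MorphismProperty.of_isPullback (isPullback_powId θ n) (inferInstance : QuasiCompact (𝟙 A ^ n).left)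
    exact exists_root n ((Over.pullback θ).map f : Red.bc θ A ⟶ Red.bc θ At)
      fun {W} w hw => (killsOver_iff θ A n f).1 ((hZ (Over.mk θ)).1 hθ) w hw
  obtain ⟨m₁, hm₁, hm₁n⟩ := hroot i ⟨𝟙 _, Category.id_comp _⟩
  haveI := hm₁
  obtain ⟨Dm, hDm, hD⟩ := PicGrp.exists_eq_cls (diffCl hξ hL i k m₁)
  obtain ⟨Z₀, j, hj, hZ₀⟩ := S19476.result (pullback.snd A.hom i) Dm
    ((M2.isInvertible_iff_isFinLocFreeOfRank_one _).1 hDm)
  haveI := hj
  refine ⟨Z₀, j ≫ i, inferInstance, fun T hT => ?_⟩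
  -- the class over a base mapping to the first subscheme
  have key : ∀ (l : T.left ⟶ Z) (hl : l ≫ i = T.hom) (m : Red.bc T.hom A ⟶ Red.bc T.hom At) [IsMonHom m],
      m ^ n = (Over.pullback T.hom).map f →
      ((∃ l' : T.left ⟶ Z₀, l' ≫ j = l) ↔ diffCl hξ hL T.hom k m = 1) := by
    intro l hl m _ hmn
    let c := bcCmp (A := A) i T.hom l hl
    let D := diffCl hξ hL T.hom k m
    have hcD : pb c (diffCl hξ hL i k m₁) = D := by
      rw [diffCl, map_mul, map_inv, Seesaw22.pullHom_cls, pb_ev, MonObj.comp_pow, bcCmp_fl_id,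
        bcCmp_fl_root i T.hom l hl n f m₁ hm₁n m hmn]
      rfl
    have sq := isPullback_bcCmp (A := A) i T.hom l hl
    let ψ := sq.isoPullback
    rw [hZ₀ T.left l hT]
    have hval : PicF.pullCl ψ.hom (PicF.cl ((Scheme.Modules.pullback (pullback.fst (pullback.snd A.hom i) l)).obj Dm)) =
        D.1 := by
      rw [← hcD, hD, PicLoc.pullCl_cl, PicGrp.pullHom_apply_val, PicGrp.cls_val, PicLoc.pullCl_cl]
      refine M2.cl_eq_of_iso (((Scheme.Modules.pullbackComp ψ.hom _).app Dm) ≪≫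
        (Scheme.Modules.pullbackCongr ?_).app Dm)
      exact sq.isoPullback_hom_fst
    constructor
    · rintro ⟨M, hM, hMe⟩
      have hMi : PicF.IsInvertible M := (M2.isInvertible_iff_isFinLocFreeOfRank_one _).2 hM
      let U : Over S := (Over.map T.hom).obj (𝟙_ (Over T.left))
      let p : (Over.map T.hom).obj (Red.bc T.hom A) ⟶ U := (Over.map T.hom).map (toUnit (Red.bc T.hom A))
      have hDp : D = pb p (PicGrp.cls M hMi : PicLoc.PicSet U.left) := by
        apply Subtype.ext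
        rw [← hval, (PicGrp.cl_eq_cl_iff _ _).2 hMe, PicGrp.pullHom_apply_val, PicGrp.cls_val, PicLoc.pullCl_cl,
          PicLoc.pullCl_cl]
        refine M2.cl_eq_of_iso (((Scheme.Modules.pullbackComp ψ.hom _).app M) ≪≫
          (Scheme.Modules.pullbackCongr ?_).app M)
        exact sq.isoPullback_hom_snd
      have h1 := diffCl_rigid hξ hL hrig T.hom k m
      change pb _ D = 1 at h1
      rw [hDp, pb_pb, ← Functor.map_comp, toUnit_unique (η[Red.bc T.hom A] ≫ toUnit _) (𝟙 _),
        CategoryTheory.Functor.map_id] at h1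
      have h2 : (PicGrp.cls M hMi : PicLoc.PicSet U.left) = 1 := by
        refine Eq.trans ?_ h1
        exact (Subtype.ext ((PicGrp.pullHom_apply_val ..).trans (PicLoc.pullCl_id _))).symm
      show D = 1
      rw [hDp, h2, map_one]
    · intro h
      refine ⟨Coh.structureModule _, (M2.isInvertible_iff_isFinLocFreeOfRank_one _).1
        (PicLoc.isInvertible_structureModule _), (PicGrp.cl_eq_cl_iff _ _).1 ?_⟩
      have h' := congrArg (PicF.pullCl ψ.inv) (hval.trans ((congrArg Subtype.val (show D = 1 from h)).trans PicGrp.one_val))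
      rw [pullCl_pullCl, Iso.inv_hom_id, PicLoc.pullCl_id, pullCl_structure] at h'
      rw [h', ← PicLoc.pullCl_cl, pullCl_structure]
  constructor
  · rintro ⟨h, hh⟩
    obtain ⟨m, hm, hmn⟩ := hroot T.hom ⟨h ≫ j, by rw [Category.assoc, hh]⟩
    haveI := hm
    refine ⟨m, hm, (isLambda_bc_iff T.hom hX hL hN hs _).2 hmn, ?_⟩
    exact (diffCl_eq_one_iff hξ hL T.hom k m).1 ((key (h ≫ j) (by rw [Category.assoc, hh]) m hmn).1 ⟨h, rfl⟩)
  · rintro ⟨m, hm, hml, hmc⟩
    haveI := hm
    have hmn := (isLambda_bc_iff T.hom hX hL hN hs _).1 hml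
    obtain ⟨l, hl⟩ := (hZ (Over.mk T.hom)).2 ((killsOver_iff T.hom A n f).2 fun {W} w hw => by
      rw [← hmn, MonObj.comp_pow, ← MonObj.pow_comp, hw, MonObj.one_comp])
    obtain ⟨l', hl'⟩ := (key l hl m hmn).2 ((diffCl_eq_one_iff hξ hL T.hom k m).2 hmc)
    exact ⟨l', by rw [reassoc_of% hl']; exact hl⟩

end Groth.Agent.AgPol22

end
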