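import Groth.Agent.Lib.AgPol22.Lambda

/-!
# The homomorphism attached to a module vanishes if it does on one fibre
-/

universe u

open CategoryTheory CategoryTheory.Limits MonoidalCategory CartesianMonoidalCategory AlgebraicGeometry

open scoped MonObj GrpObj CategoryTheory.Obj

set_option backward.isDefEq.respectTransparency false
set_option linter.style.haveILetI false
set_option maxHeartbeats 1000000

noncomputable section

namespace Groth.Agent.AgPol22

open Groth.Agent.Seesaw22 Groth.Agent.CubeField Groth.Agent.AbDual21 Groth.Agent.PicDesc21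

noncomputable local instance instLawAgPolFibre (Y : Scheme.{u}) : PicGrp.Law Y := M2.law Y

variable {S : Scheme.{u}} [ConnectedSpace S] {A : Over S} [GrpObj A] [IsProper A.hom] [Smooth A.hom]
  [GeometricallyConnected A.hom] {L : A.left.Modules} {N : (PicF.XT A.hom A).Modules}
  {At : Over S} [GrpObj At] {φ : AgPol.DualMap A At}

/-- If the map attached to the Mumford bundle is trivial over the fibre at one point, it is trivial. -/
theorem phi_eq_one (hX : AbDual.IsDualAV Scheme.fppfPrecoverage A At φ) (hL : PicF.IsInvertible L)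
    (hN : PicF.IsInvertible N)
    (hs : AgPol.IsLambdaSheaf (μ[A].left : PicF.XT A.hom A ⟶ A.left) (fst A A).left (snd A A).left L N)
    (s : S)
    (hlam : ∀ a : Over.mk (pullback.fst A.hom (S.fromSpecResidueField s) ≫ A.hom) ⟶ A,
      a.left = pullback.fst A.hom (S.fromSpecResidueField s) → a ≫ φ A (PicF.cl N) = 1) :
    φ A (PicF.cl N) = 1 := by
  haveI := PicSep22.geometricallyIntegral_of_smooth A.hom
  haveI : LocallyOfFinitePresentation A.hom := inferInstance
  have hc := picZero_mum hL hN hs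
  let κs := S.fromSpecResidueField s
  let V : Over S := Over.mk (pullback.fst A.hom κs ≫ A.hom)
  let a : V ⟶ A := Over.homMk (pullback.fst A.hom κs) rfl
  let E : PicLoc.PicSet (A ⊗ A).left :=
    mcls hN (𝟙 (A ⊗ A)) * Seesaw22.cls L hL (1 : A ⊗ A ⟶ A)
  have hE : ∀ {W : Over S} (t : W ⟶ A ⊗ A), PicGrp.pullHom t.left (M2.pullMul _) E *
      Seesaw22.cls L hL (t ≫ fst A A) * Seesaw22.cls L hL (t ≫ snd A A) =
        Seesaw22.cls L hL ((t ≫ fst A A) * (t ≫ snd A A)) * Seesaw22.cls L hL (1 : W ⟶ A) := fun {W} t => by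
    rw [map_mul, pullHom_mcls, Category.comp_id, Seesaw22.pullHom_cls, MonObj.comp_one,
      ← mcls_mul (hL := hL) (hN := hN) hs t]
    ac_rfl
  have hE₁ : ∀ {W : Over S} (b : W ⟶ A), PicGrp.pullHom (lift (1 : W ⟶ A) b).left (M2.pullMul _) E = 1 := fun {W} b => by
    have := hE (lift (1 : W ⟶ A) b)
    rw [lift_fst, lift_snd, _root_.one_mul, mul_assoc, mul_comm (Seesaw22.cls L hL 1)] at this
    exact mul_eq_right.1 this
  have hE₂ : ∀ {W : Over S} (b : W ⟶ A), PicGrp.pullHom (lift b (1 : W ⟶ A)).left (M2.pullMul _) E = 1 := fun {W} b => by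
    have := hE (lift b (1 : W ⟶ A))
    rw [lift_fst, lift_snd, _root_.mul_one, mul_assoc] at this
    exact mul_eq_right.1 this
  -- over the fibre
  obtain ⟨M, hM, hMN⟩ := mum_eq_pull_of_phi hX hc a (by
    rw [mum, phi_natural hX a hc]; exact hlam a rfl)
  obtain ⟨m, hm⟩ : ∃ m : PicLoc.PicSet V.left, PicGrp.pullHom (A ◁ a).left (M2.pullMul _) E =
      PicGrp.pullHom (snd A V).left (M2.pullMul _) m := by
    refine ⟨PicGrp.cls M hM * Seesaw22.cls L hL (1 : V ⟶ A), ?_⟩
    simp only [E, map_mul, pullHom_mcls, Category.comp_id, Seesaw22.pullHom_cls, MonObj.comp_one]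
    congr 1
    exact Subtype.ext hMN
  have hm1 : m = 1 := by
    have h1 := congrArg (PicGrp.pullHom (lift (1 : V ⟶ A) (𝟙 V)).left (M2.pullMul _)) hm
    rw [← PicGrp.pullHom_comp_apply _ _ _ _ (M2.pullMul _), ← PicGrp.pullHom_comp_apply _ _ _ _ (M2.pullMul _)] at h1
    simp only [← Over.comp_left, lift_snd, lift_whiskerLeft, Category.id_comp] at h1
    rw [hE₁] at h1
    refine Eq.trans ?_ h1.symm
    exact (Subtype.ext (PicLoc.pullCl_id m.1)).symm
  rw [hm1, map_one] at hm
  -- spreading out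
  obtain ⟨Em, hEm, hEEm⟩ := PicGrp.exists_eq_cls E
  let e : S ⟶ A.left := η[A].left
  have he : e ≫ A.hom = 𝟙 S := Over.w η[A]
  have hone : ∀ {W : Over S}, (1 : W ⟶ A).left = W.hom ≫ e := fun {W} => rfl
  let θ : pullback (pP A.hom A.hom) (𝟙 S) ⟶ (A ⊗ A).left := pullback.fst _ _
  haveI : IsIso θ := inferInstanceAs (IsIso (pullback.fst (pP A.hom A.hom) (𝟙 S)))
  have htriv : ∀ {W : Over S} (t : W ⟶ A ⊗ A), PicGrp.pullHom t.left (M2.pullMul _) E = 1 →
      IsTriv ((Scheme.Modules.pullback t.left).obj Em) := fun {W} t ht => by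
    rw [hEEm, PicGrp.pullHom_cls, PicGrp.cls_eq_one_iff] at ht
    exact ht
  have h₁ := htriv _ (hE₁ (𝟙 A))
  have h₂ := htriv _ (hE₂ (𝟙 A))
  let L' := (Scheme.Modules.pullback θ).obj Em
  have hτ : ∀ b, IsTriv ((Scheme.Modules.pullback (sliceJ A.hom A.hom (𝟙 S) e he e he b)).obj L') := by
    rintro (_ | _)
    · let u : pullback (slX A.hom A.hom e he ≫ pP A.hom A.hom) (𝟙 S) ⟶ A.left := pullback.fst _ _
      refine (isTriv_comp_iff _ _ Em).2 (isTriv_of_eq ?_ ((isTriv_comp_iff u _ Em).1 (h₂.pullback u)))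
      apply pullback.hom_ext <;> simp [u, θ, sliceJ, sliceT, pP, slX, slY, hone]
    · let u : pullback (slY A.hom A.hom e he ≫ pP A.hom A.hom) (𝟙 S) ⟶ A.left := pullback.fst _ _
      refine (isTriv_comp_iff _ _ Em).2 (isTriv_of_eq ?_ ((isTriv_comp_iff u _ Em).1 (h₁.pullback u)))
      apply pullback.hom_ext <;> simp [u, θ, sliceJ, sliceT, pP, slX, slY, hone]
  let π := Seesaw22.proj A.hom A.hom (𝟙 S)
  have h0 : IsTriv ((Scheme.Modules.pullback (π.fiberι s)).obj L') := by
    let b₂ : π.fiber s ⟶ V.left := pullback.lift (π.fiberι s ≫ θ ≫ pullback.snd A.hom A.hom)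
      (π.fiberToSpecResidueField s) (by
        have hc1 : π.fiberι s ≫ π = π.fiberToSpecResidueField s ≫ κs := pullback.condition
        rw [← hc1, Category.assoc, Category.assoc]
        congr 1
        show pullback.fst _ _ ≫ pullback.snd A.hom A.hom ≫ A.hom = pullback.snd (pP A.hom A.hom) (𝟙 S)
        rw [← pullback.condition (f := A.hom) (g := A.hom)]
        exact pullback.condition.trans (Category.comp_id _))
    let b : π.fiber s ⟶ (A ⊗ V).left := pullback.lift (π.fiberι s ≫ θ ≫ pullback.fst A.hom A.hom) b₂ (by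
      show _ = b₂ ≫ pullback.fst A.hom κs ≫ A.hom
      rw [pullback.lift_fst_assoc, Category.assoc, Category.assoc, Category.assoc, Category.assoc]
      exact congrArg (fun z => π.fiberι s ≫ θ ≫ z) pullback.condition)
    refine (isTriv_comp_iff _ _ Em).2 (isTriv_of_eq ?_ ((isTriv_comp_iff b _ Em).1 ((htriv _ hm).pullback b)))
    apply pullback.hom_ext
    · simp [b, b₂, a, θ]
    · simp [b, b₂, a, θ]
  obtain ⟨U, hU, hsU, hUtriv⟩ := cube_clopen A.hom A.hom (𝟙 S) e he e he (PicLoc.isInvertible_pullback _ hEm) hτ s h0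
  obtain rfl : U = ⊤ := TopologicalSpace.Opens.ext (IsClopen.eq_univ ⟨hU, U.isOpen⟩ ⟨s, hsU⟩)
  have hL' : IsTriv L' := by
    obtain ⟨i⟩ := isTriv_of_eq (show (pullback (pP A.hom A.hom) (𝟙 S)).topIso.inv ≫
        (π ⁻¹ᵁ (⊤ : S.Opens)).ι = 𝟙 _ from (pullback (pP A.hom A.hom) (𝟙 S)).topIso.inv_hom_id)
      ((isTriv_comp_iff _ _ L').1 (hUtriv.pullback (pullback (pP A.hom A.hom) (𝟙 S)).topIso.inv))
    exact ⟨((Scheme.Modules.pullbackId _).app L').symm ≪≫ i⟩
  have hE1 : E = 1 := by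
    rw [hEEm, PicGrp.cls_eq_one_iff]
    obtain ⟨i⟩ := isTriv_of_eq (IsIso.inv_hom_id θ) ((isTriv_comp_iff _ _ Em).1 (hL'.pullback (inv θ)))
    exact ⟨((Scheme.Modules.pullbackId _).app Em).symm ≪≫ i⟩
  -- conclusion
  have hN1 : (mcls hN (𝟙 (A ⊗ A))) = PicGrp.pullHom (snd A A).left (M2.pullMul _) (Seesaw22.cls L hL (1 : A ⟶ A))⁻¹ := by
    rw [map_inv, Seesaw22.pullHom_cls, MonObj.comp_one, eq_inv_iff_mul_eq_one]
    exact hE1
  obtain ⟨M', hM', hMM'⟩ := PicGrp.exists_eq_cls (Seesaw22.cls L hL (1 : A ⟶ A))⁻¹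
  have hval := congrArg Subtype.val hN1
  rw [hMM'] at hval
  have hid : (mcls hN (𝟙 (A ⊗ A))).1 = PicF.cl N := by
    rw [mcls, PicGrp.pullHom_apply_val, Over.id_left]
    exact PicLoc.pullCl_id _
  rw [show PicF.cl N = PicF.pullCl (PicF.XTproj A.hom A) (PicF.cl M') from hid.symm.trans hval]
  exact phi_base hX ⟨M', rfl, hM'⟩

end Groth.Agent.AgPol22

end
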