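import Groth.Agent.Lib.AgPol22.Pair

/-!
# The map attached to an invertible module is a homomorphism
-/

universe u

open CategoryTheory CategoryTheory.Limits MonoidalCategory CartesianMonoidalCategory AlgebraicGeometry

open scoped MonObj GrpObj CategoryTheory.Obj

set_option backward.isDefEq.respectTransparency false
set_option linter.style.haveILetI false
set_option maxHeartbeats 1000000

noncomputable section

namespace Groth.Agent.AgPol22

open Groth.Agent.Seesaw22 Groth.Agent.AbDual21 Groth.Agent.PicDesc21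

noncomputable local instance instLawAgPolHom (Y : Scheme.{u}) : PicGrp.Law Y := M2.law Y

variable {S : Scheme.{u}} {A : Over S} [GrpObj A] [IsProper A.hom] [Smooth A.hom] [GeometricallyConnected A.hom]
  {L : A.left.Modules} {N : (PicF.XT A.hom A).Modules} {At : Over S} [GrpObj At] {φ : AgPol.DualMap A At}

omit [GrpObj A] [IsProper A.hom] [Smooth A.hom] [GeometricallyConnected A.hom] [GrpObj At] in
theorem cancel_aux {G : Type*} [CommGroup G] {m₁ m₂ m₃ a b c ab ac bc abc o : G} (h₁ : m₁ * a * bc = abc)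
    (h₂ : m₂ * a * b = ab) (h₃ : m₃ * a * c = ac) (hc : abc * a * b * c = ab * ac * bc * o) :
    m₁ = m₂ * m₃ * o := by
  subst h₁ h₂ h₃
  refine mul_right_cancel (b := a * bc * a * b * c) ?_
  calc m₁ * (a * bc * a * b * c) = m₁ * a * bc * a * b * c := by ac_rfl
    _ = m₂ * a * b * (m₃ * a * c) * bc * o := hc
    _ = m₂ * m₃ * o * (a * bc * a * b * c) := by ac_rfl

/-- The Mumford class is biadditive up to classes from the base. -/
theorem mcls_add (hL : PicF.IsInvertible L) (hN : PicF.IsInvertible N)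
    (hs : AgPol.IsLambdaSheaf (μ[A].left : PicF.XT A.hom A ⟶ A.left) (fst A A).left (snd A A).left L N)
    {W : Over S} (a b c : W ⟶ A) :
    mcls hN (lift a (b * c)) = mcls hN (lift a b) * mcls hN (lift a c) * Seesaw22.cls L hL (1 : W ⟶ A) := by
  haveI := PicSep22.geometricallyIntegral_of_smooth A.hom
  have h₁ := mcls_mul (hL := hL) (hN := hN) hs (lift a (b * c))
  have h₂ := mcls_mul (hL := hL) (hN := hN) hs (lift a b)
  have h₃ := mcls_mul (hL := hL) (hN := hN) hs (lift a c)
  have h₄ := mcls_mul (hL := hL) (hN := hN) hs (lift b c)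
  have hc := Seesaw22.cube (L := L) (hL := hL) a b c
  simp only [lift_fst, lift_snd] at h₁ h₂ h₃ h₄
  rw [_root_.mul_assoc a b c] at hc
  exact cancel_aux h₁ h₂ h₃ hc

theorem isMonHom_phi (hX : AbDual.IsDualAV Scheme.fppfPrecoverage A At φ) (hL : PicF.IsInvertible L)
    (hN : PicF.IsInvertible N)
    (hs : AgPol.IsLambdaSheaf (μ[A].left : PicF.XT A.hom A ⟶ A.left) (fst A A).left (snd A A).left L N) :
    IsMonHom (φ A (PicF.cl N)) := by
  haveI := PicSep22.geometricallyIntegral_of_smooth A.hom
  have hc := picZero_mum hL hN hs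
  have key : ∀ {V : Over S} (x y : V ⟶ A),
      (x * y) ≫ φ A (PicF.cl N) = (x ≫ φ A (PicF.cl N)) * (y ≫ φ A (PicF.cl N)) := fun {V} x y => by
    rw [← phi_natural hX (x * y) hc, ← phi_natural hX x hc, ← phi_natural hX y hc,
      ← phi_mul hX (picZero_whisker x hc) (picZero_whisker y hc)]
    have e : ∀ z : V ⟶ A, A ◁ z = lift (fst A V) (snd A V ≫ z) := fun z => by
      apply CartesianMonoidalCategory.hom_ext <;> simp
    have h := congrArg Subtype.val (mcls_add hL hN hs (fst A V) (snd A V ≫ x) (snd A V ≫ y))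
    rw [← MonObj.comp_mul, ← e, ← e, ← e, PicGrp.mul_val, PicGrp.mul_val, mcls_val, mcls_val, mcls_val] at h
    have h1 : Seesaw22.cls L hL (1 : A ⊗ V ⟶ A) = pb (snd A V) (Seesaw22.cls L hL (1 : V ⟶ A)) := by
      rw [Seesaw22.pullHom_cls, MonObj.comp_one]
    rw [h1, PicGrp.pullHom_apply_val] at h
    refine (congrArg (φ V) h).trans (phi_mul_base hX
      (picZero_mulCl (picZero_whisker x hc) (picZero_whisker y hc)) (Seesaw22.cls L hL (1 : V ⟶ A)).2)
  refine ⟨?_, ?_⟩
  · have e : ∀ (M : Over S) [GrpObj M], (1 : 𝟙_ (Over S) ⟶ M) = η[M] := fun M _ => by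
      rw [Hom.one_def, toUnit_unit, Category.id_comp]
    have h := key (1 : 𝟙_ (Over S) ⟶ A) 1
    rw [_root_.mul_one] at h
    have h' := left_eq_mul.mp h
    rwa [e, e] at h'
  · have h := key (fst A A) (snd A A)
    rw [Hom.mul_def, lift_fst_snd, Category.id_comp] at h
    rw [h, Hom.mul_def]
    congr 1

end Groth.Agent.AgPol22

end
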