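import Groth.Agent.Lib.Seesaw22.AbCube
import Groth.Agent.Lib.AbDual21.Phi
import Groth.Agent.Lib.PicSep22.Smooth
import Groth.Agent.Lib.RigDesc22.Classes
import Groth.Agent.Lib.ParaFDesc27.DescentFamily
import Groth.Prelude.Def_AgPol

/-!
# The homomorphism attached to an invertible module on an abelian scheme
-/

universe u

open CategoryTheory CategoryTheory.Limits MonoidalCategory CartesianMonoidalCategory AlgebraicGeometry

open scoped MonObj GrpObj CategoryTheory.Obj

set_option backward.isDefEq.respectTransparency false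
set_option linter.style.haveILetI false

noncomputable section

namespace Groth.Agent.AgPol22

open Groth.Agent.Seesaw22 Groth.Agent.CubeField Groth.Agent.AbDual21 Groth.Agent.PicDesc21

noncomputable local instance instLawAgPol (Y : Scheme.{u}) : PicGrp.Law Y := M2.law Y

variable {S : Scheme.{u}} {A : Over S} [GrpObj A] {L : A.left.Modules} {hL : PicF.IsInvertible L}
  {N : (PicF.XT A.hom A).Modules} {hN : PicF.IsInvertible N}

/-- The class of the Mumford bundle along `z`. -/
abbrev mum (N : (PicF.XT A.hom A).Modules) {V : Over S} (z : V ⟶ A) : PicF.Cl (PicF.XT A.hom V) :=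
  PicF.pullCl (A ◁ z).left (PicF.cl N)

/-- The class of the Mumford bundle along a point of `A × A`. -/
def mcls (hN : PicF.IsInvertible N) {W : Over S} (s : W ⟶ A ⊗ A) : PicLoc.PicSet W.left :=
  PicGrp.pullHom s.left (M2.pullMul _) (PicGrp.cls N hN : PicLoc.PicSet (A ⊗ A).left)

theorem pullHom_mcls {V W : Over S} (t : V ⟶ W) (s : W ⟶ A ⊗ A) :
    PicGrp.pullHom t.left (M2.pullMul _) (mcls hN s) = mcls hN (t ≫ s) :=
  Subtype.ext (by
    unfold mcls
    rw [PicGrp.pullHom_apply_val, PicGrp.pullHom_apply_val, PicGrp.pullHom_apply_val, pullCl_pullCl]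
    rfl)

theorem mcls_val {V : Over S} (z : V ⟶ A) : (mcls hN (A ◁ z)).1 = mum N z := rfl

theorem mcls_mul (hs : AgPol.IsLambdaSheaf (μ[A].left : PicF.XT A.hom A ⟶ A.left) (fst A A).left (snd A A).left L N)
    {W : Over S} (s : W ⟶ A ⊗ A) :
    mcls hN s * Seesaw22.cls L hL (s ≫ fst A A) * Seesaw22.cls L hL (s ≫ snd A A) =
      Seesaw22.cls L hL ((s ≫ fst A A) * (s ≫ snd A A)) := by
  obtain ⟨e⟩ := hs
  have h : (PicGrp.cls N hN : PicLoc.PicSet (A ⊗ A).left) * Seesaw22.cls L hL (fst A A) *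
      Seesaw22.cls L hL (snd A A) = Seesaw22.cls L hL μ[A] := by
    apply Subtype.ext
    simp only [Seesaw22.cls, PicGrp.mul_val, PicGrp.cls_val, PicGrp.mulCl_cl]
    exact M2.cl_eq_of_iso e
  have h1 := congrArg (PicGrp.pullHom s.left (M2.pullMul _)) h
  simp only [map_mul, Seesaw22.pullHom_cls] at h1
  have hμ : μ[A] = fst A A * snd A A := by rw [Hom.mul_def, lift_fst_snd, Category.id_comp]
  rw [hμ, MonObj.comp_mul] at h1
  exact h1

theorem cls_one_field {Ω : Type u} [Field Ω] {V : Over S} (e : V.left = Spec (CommRingCat.of Ω)) (f : V ⟶ A) :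
    Seesaw22.cls L hL f = 1 := by
  obtain ⟨V, v, hom⟩ := V
  obtain rfl : V = Spec (CommRingCat.of Ω) := e
  apply Subtype.ext
  rw [PicGrp.one_val]
  exact isTrivialCl_spec_field ⟨_, rfl, PicLoc.isInvertible_pullback _ hL⟩

section Ab

variable [IsProper A.hom] [GeometricallyIntegral A.hom]

theorem picZero_mum (hL : PicF.IsInvertible L) (hN : PicF.IsInvertible N)
    (hs : AgPol.IsLambdaSheaf (μ[A].left : PicF.XT A.hom A ⟶ A.left) (fst A A).left (snd A A).left L N) :
    AbDual.IsPicZeroCl A.hom A (PicF.cl N) := by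
  rw [isPicZeroCl_iff]
  refine ⟨⟨N, rfl, hN⟩, fun Ω _ _ σ => ?_⟩
  let p : Spec (CommRingCat.of Ω) ⟶ S := σ ≫ A.hom
  let T' : Over S := A ⊗ Over.mk p
  let q : T'.left ⟶ Spec (CommRingCat.of Ω) := (snd A (Over.mk p)).left
  have : ConnectedSpace T'.left := by
    have : IsIntegral (pullback A.hom p) :=
      GeometricallyIntegral.isIntegral_of_subsingleton (pullback.snd A.hom p)
    exact inferInstanceAs (ConnectedSpace ↥(pullback A.hom p))
  have : LocallyOfFiniteType q := inferInstanceAs (LocallyOfFiniteType (pullback.snd A.hom p))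
  have : QuasiCompact q := inferInstanceAs (QuasiCompact (pullback.snd A.hom p))
  let t₀ : Over.mk p ⟶ T' := lift (1 : Over.mk p ⟶ A) (𝟙 _)
  have ht₀ : t₀.left ≫ q = 𝟙 _ := congrArg CommaMorphism.left (lift_snd (1 : Over.mk p ⟶ A) (𝟙 _))
  let W₀ : Over S := AbDual.ovr T' t₀.left
  have e1 : AbDual.ovrHom T' t₀.left ≫ fst A (Over.mk p) = (1 : W₀ ⟶ A) := by
    apply Over.OverMorphism.ext
    change t₀.left ≫ (fst A (Over.mk p)).left = _
    rw [← Over.comp_left, lift_fst]
    change (toUnit (Over.mk p) ≫ η[A]).left = (toUnit W₀ ≫ η[A]).left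
    simp only [W₀, Over.comp_left, Over.toUnit_left, Over.w t₀, AbDual.ovr]
    congr 1
    exact (Over.w t₀).symm
  have h0 : PicF.IsTrivialCl (PicF.pullCl (PicF.XTmap A.hom (AbDual.ovrHom T' t₀.left))
      (mum N (fst A (Over.mk p)))) := by
    rw [mum, XTmap_eq, pullCl_pullCl, ← Over.comp_left, ← whiskerLeft_comp, e1]
    have h := mcls_mul (hL := hL) (hN := hN) hs (A ◁ (1 : W₀ ⟶ A))
    rw [whiskerLeft_fst, whiskerLeft_snd, MonObj.comp_one, _root_.mul_one] at h
    have h2 : Seesaw22.cls L hL (1 : A ⊗ W₀ ⟶ A) = 1 := by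
      rw [← MonObj.comp_one (f := snd A W₀), ← Seesaw22.pullHom_cls, cls_one_field (Ω := Ω) rfl, map_one]
    rw [h2, _root_.mul_one, mul_eq_right] at h
    have h3 := congrArg Subtype.val h
    rw [PicGrp.one_val] at h3
    exact h3
  have hz := picZero_of_family (f := A.hom) q (σ := p)
    (congrArg (fun g => g) (Over.w (snd A (Over.mk p)))) t₀.left ht₀
    (isInvertibleCl_pull _ ⟨N, rfl, hN⟩) h0
  obtain ⟨-, hz⟩ := isPicZeroCl_iff.1 hz
  let s : Spec (CommRingCat.of Ω) ⟶ T'.left := pullback.lift σ (𝟙 _) (Category.id_comp _).symm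
  have hs1 : s ≫ (fst A (Over.mk p)).left = σ := pullback.lift_fst _ _ _
  let kk : pullback (PicF.XTproj A.hom A) σ ⟶ pullback (PicF.XTproj A.hom T') s :=
    pullback.lift (pullback.lift (pullback.fst _ _ ≫ pullback.fst A.hom A.hom) (pullback.snd _ _ ≫ s) (by
      have e : s ≫ T'.hom = σ ≫ A.hom := by
        rw [← Over.w (fst A (Over.mk p)), ← Category.assoc, hs1]
      simp [e, pullback.condition, pullback.condition_assoc])) (pullback.snd _ _) (pullback.lift_snd _ _ _)
  have h1 := algZ_pull kk (pullback.lift_snd _ _ _) (hz Ω s)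
  have e2 : kk ≫ pullback.fst (PicF.XTproj A.hom T') s ≫ (A ◁ fst A (Over.mk p)).left = pullback.fst _ _ := by
    rw [pullback.lift_fst_assoc, ← XTmap_eq]
    apply pullback.hom_ext
    · simp [PicF.XTmap]
      apply pullback.lift_fst
    · simp [PicF.XTmap, pullback.condition]
      refine (pullback.lift_snd_assoc (f := A.hom) _ _ _ _).trans ?_
      exact (Category.assoc _ _ _).trans (congrArg _ hs1)
  rw [pullCl_pullCl, pullCl_pullCl] at h1
  rw [Category.assoc, e2] at h1
  exact h1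

end Ab

theorem isPullback_XTmap {X S : Scheme.{u}} (f : X ⟶ S) (T : Over S) {U : Scheme.{u}} (u : U ⟶ T.left) :
    IsPullback (PicF.XTmap f (AbDual.ovrHom T u)) (PicF.XTproj f (AbDual.ovr T u)) (PicF.XTproj f T) u := by
  refine IsPullback.of_right (h₁₂ := pullback.fst f T.hom) (v₁₃ := f) (h₂₂ := T.hom) ?_ ?_
    (IsPullback.of_hasPullback f T.hom)
  · rw [show PicF.XTmap f (AbDual.ovrHom T u) ≫ pullback.fst f T.hom = pullback.fst f (u ≫ T.hom) by
      simp [PicF.XTmap, pullback.map, AbDual.ovr]]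
    exact IsPullback.of_hasPullback f (u ≫ T.hom)
  · exact pullback.lift_snd _ _ _

variable [IsProper A.hom] [Smooth A.hom] [GeometricallyConnected A.hom]

/-- If `φ` kills the Mumford bundle along `a`, the bundle along `a` comes from the base. -/
theorem mum_eq_pull_of_phi {At : Over S} [GrpObj At] {φ : AgPol.DualMap A At}
    (hX : AbDual.IsDualAV Scheme.fppfPrecoverage A At φ)
    (hc : AbDual.IsPicZeroCl A.hom A (PicF.cl N)) {V : Over S} (a : V ⟶ A) (h : φ V (mum N a) = 1) :
    ∃ M : V.left.Modules, PicF.IsInvertible M ∧ mum N a = PicF.pullCl (PicF.XTproj A.hom V) (PicF.cl M) := by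
  obtain ⟨R, hR, hRe⟩ := hX.relPic.locallyInjective V (mum N a) (triv A V) (picZero_whisker a hc)
    (picZero_one V) (h.trans (phi_one hX V).symm)
  obtain ⟨κ, U, u, hu, hRu⟩ := RigDesc22.exists_family hR
  obtain ⟨hsurj, hflat⟩ := mem_fppf_iff.1 hu
  haveI := fun i => (hflat i).1
  haveI := fun i => (hflat i).2
  let p := PicF.XTproj A.hom V
  haveI := PicSep22.geometricallyIntegral_of_smooth p
  obtain ⟨Nm, hNm, hNmi⟩ := picZero_invertible (picZero_whisker a hc)
  obtain ⟨M, hM, ⟨e⟩⟩ := ParaFDesc27.exists_descent_family p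
    (fun O => (ConcreteCategory.isIso_iff_bijective _).1 (PicSep22.isIso_app p O)) u (fun i => (u i).isOpenMap)
    (fun x => hsurj x) (fun i => isPullback_XTmap A.hom V (u i)) hNmi (fun i =>
      ⟨Coh.structureModule _, PicLoc.isInvertible_structureModule _, (PicGrp.cl_eq_cl_iff _ _).1 (by
        rw [← PicLoc.pullCl_cl, ← PicLoc.pullCl_cl, pullCl_structure]
        erw [hNm]
        rw [hRe (u i) (hRu i), pullCl_structure])⟩)
  exact ⟨M, hM, hNm.symm.trans ((PicGrp.cl_eq_cl_iff _ _).2 ⟨e⟩)⟩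

end Groth.Agent.AgPol22

end
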