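import Groth.Agent.Lib.AgPol22.Lambda
import Groth.Agent.Lib.KernelKL22.Poincare

/-!
# The pairing attached to a Poincaré class
-/

universe u

open CategoryTheory CategoryTheory.Limits MonoidalCategory CartesianMonoidalCategory AlgebraicGeometry

open scoped MonObj GrpObj CategoryTheory.Obj

set_option backward.isDefEq.respectTransparency false
set_option linter.style.haveILetI false

noncomputable section

namespace Groth.Agent.AgPol22

open Groth.Agent.AbDual21 Groth.Agent.PicDesc21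

noncomputable local instance instLawAgPolPair (Y : Scheme.{u}) : PicGrp.Law Y := M2.law Y

variable {S : Scheme.{u}} {A At : Over S} [GrpObj A] [GrpObj At] {φ : AgPol.DualMap A At}
  {ξ : PicF.Cl (PicF.XT A.hom At)}

/-- Pullback of classes. -/
abbrev pb {V W : Over S} (f : V ⟶ W) : PicLoc.PicSet W.left →* PicLoc.PicSet V.left :=
  PicGrp.pullHom f.left (M2.pullMul _)

theorem pb_pb {U V W : Over S} (g : U ⟶ V) (f : V ⟶ W) (c : PicLoc.PicSet W.left) :
    pb g (pb f c) = pb (g ≫ f) c :=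
  Subtype.ext (by rw [PicGrp.pullHom_apply_val, PicGrp.pullHom_apply_val, PicGrp.pullHom_apply_val,
    pullCl_pullCl]; rfl)

/-- A Poincaré class as an element of the Picard group. -/
def pcls (hξ : AbDual.IsPoincareCl A At φ ξ) : PicLoc.PicSet (A ⊗ At).left :=
  ⟨ξ, picZero_invertible hξ.1⟩

/-- The pairing of a point of `A` and a point of `At`. -/
def ev (hξ : AbDual.IsPoincareCl A At φ ξ) {W : Over S} (x : W ⟶ A) (y : W ⟶ At) : PicLoc.PicSet W.left :=
  pb (lift x y) (pcls hξ)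

theorem pb_ev (hξ : AbDual.IsPoincareCl A At φ ξ) {V W : Over S} (t : V ⟶ W) (x : W ⟶ A) (y : W ⟶ At) :
    pb t (ev hξ x y) = ev hξ (t ≫ x) (t ≫ y) := by
  rw [ev, ev, pb_pb, comp_lift]

theorem ev_one_left (hξ : AbDual.IsPoincareCl A At φ ξ) {W : Over S} (y : W ⟶ At) :
    ev hξ (1 : W ⟶ A) y = 1 := by
  have h : ev hξ (1 : At ⟶ A) (𝟙 At) = 1 :=
    Subtype.ext ((PicGrp.pullHom_apply_val ..).trans (((KernelKL22.isTrivialCl_secT_iff _).1 hξ.2.2).trans
      (PicGrp.one_val).symm))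
  have h2 := congrArg (pb y) h
  rwa [pb_ev, map_one, MonObj.comp_one, Category.comp_id] at h2

omit [GrpObj A] [GrpObj At] in
theorem algZ_mul {Ω : Type u} [Field Ω] [IsAlgClosed Ω] {P : Scheme.{u}} {π : P ⟶ Spec (CommRingCat.of Ω)}
    {c d : PicF.Cl P} (hc : AlgZ π c) (hd : AlgZ π d) : AlgZ π (PicGrp.mulCl c d) := by
  obtain ⟨B, q, hB, hl, hq, m, hm, t, t₀, ht, ht₀, h, h₀⟩ := hc
  obtain ⟨B', q', hB', hl', hq', m', hm', t', t₀', ht', ht₀', h', h₀'⟩ := hd
  have : GeometricallyConnected q' := ⟨fun K _ y P' fst' snd' h => by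
    have := AbRigid.connectedSpace_pullback_of_isAlgClosed (K := Ω) q' y
    exact (Scheme.homeoOfIso h.isoPullback).symm.surjective.connectedSpace (Scheme.homeoOfIso h.isoPullback).symm.continuous⟩
  have : ConnectedSpace ↥(pullback q q') := inferInstance
  let r : pullback q q' ⟶ Spec (CommRingCat.of Ω) := pullback.fst q q' ≫ q
  let K₁ : pullback π r ⟶ pullback π q := pullback.lift (pullback.fst π r) (pullback.snd π r ≫ pullback.fst q q')
    (by rw [pullback.condition, Category.assoc])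
  let K₂ : pullback π r ⟶ pullback π q' := pullback.lift (pullback.fst π r) (pullback.snd π r ≫ pullback.snd q q')
    (by rw [pullback.condition, Category.assoc, ← pullback.condition (f := q)])
  let T₁ : Spec (CommRingCat.of Ω) ⟶ pullback q q' := pullback.lift t t' (ht.trans ht'.symm)
  let T₀ : Spec (CommRingCat.of Ω) ⟶ pullback q q' := pullback.lift t₀ t₀' (ht₀.trans ht₀'.symm)
  haveI : LocallyOfFiniteType r := inferInstance
  haveI : QuasiCompact r := inferInstance
  refine ⟨pullback q q', r, inferInstance, inferInstance, inferInstance,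
    PicGrp.mulCl (PicF.pullCl K₁ m) (PicF.pullCl K₂ m'),
    M2.isInvertibleCl_mulCl (isInvertibleCl_pull K₁ hm) (isInvertibleCl_pull K₂ hm'), T₁, T₀,
    by simp [T₁, r, ht], by simp [T₀, r, ht₀], ?_, ?_⟩
  · rw [pullCl_mulCl, pullCl_pullCl, pullCl_pullCl, ← h, ← h']
    congr 2 <;> apply pullback.hom_ext <;> simp [K₁, K₂, T₁]
  · rw [pullCl_mulCl, pullCl_pullCl, pullCl_pullCl]
    refine Eq.trans ?_ (M2.one_mulCl _)
    conv_rhs => arg 1; rw [← h₀]
    conv_rhs => arg 2; rw [← h₀']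
    congr 2 <;> apply pullback.hom_ext <;> simp [K₁, K₂, T₀]

omit [GrpObj A] [GrpObj At] in
theorem picZero_mulCl {T : Over S} {c d : PicF.Cl (PicF.XT A.hom T)} (hc : AbDual.IsPicZeroCl A.hom T c)
    (hd : AbDual.IsPicZeroCl A.hom T d) : AbDual.IsPicZeroCl A.hom T (PicGrp.mulCl c d) := by
  rw [isPicZeroCl_iff] at hc hd ⊢
  refine ⟨M2.isInvertibleCl_mulCl hc.1 hd.1, fun Ω _ _ σ => ?_⟩
  rw [pullCl_mulCl]
  exact algZ_mul (hc.2 Ω σ) (hd.2 Ω σ)

variable [IsProper A.hom] [Smooth A.hom] [GeometricallyConnected A.hom]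

theorem ev_mul_right (hX : AbDual.IsDualAV Scheme.fppfPrecoverage A At φ) (hξ : AbDual.IsPoincareCl A At φ ξ)
    {W : Over S} (x : W ⟶ A) (y y' : W ⟶ At) : ev hξ x (y * y') = ev hξ x y * ev hξ x y' := by
  haveI := AbRigid.geometricallyReduced_of_smooth A.hom
  have hv : ∀ z : W ⟶ At, (pb (A ◁ z) (pcls hξ)).1 = PicF.pullCl (A ◁ z).left ξ := fun z =>
    PicGrp.pullHom_apply_val ..
  have hz : ∀ z : W ⟶ At, AbDual.IsPicZeroCl A.hom W (pb (A ◁ z) (pcls hξ)).1 := fun z => by
    rw [hv]; exact picZero_whisker z hξ.1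
  have hp : ∀ z : W ⟶ At, φ W (pb (A ◁ z) (pcls hξ)).1 = z := fun z => by
    rw [hv, phi_natural hX z hξ.1, hξ.2.1, Category.comp_id]
  have hu : ∀ z : W ⟶ At, pb (lift (1 : W ⟶ A) (𝟙 W)) (pb (A ◁ z) (pcls hξ)) = 1 := fun z => by
    rw [pb_pb, lift_whiskerLeft, Category.id_comp]
    exact ev_one_left hξ z
  have h : pb (A ◁ (y * y')) (pcls hξ) = pb (A ◁ y) (pcls hξ) * pb (A ◁ y') (pcls hξ) := by
    apply Subtype.ext
    refine KernelKL22.eq_of_phi hX (hz _) ?_ ?_ ?_
    · rw [PicGrp.mul_val]; exact picZero_mulCl (hz y) (hz y')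
    · rw [PicGrp.mul_val, phi_mul hX (hz y) (hz y'), hp, hp, hp]
    · have e := hu (y * y')
      have e' : pb (lift (1 : W ⟶ A) (𝟙 W)) (pb (A ◁ y) (pcls hξ) * pb (A ◁ y') (pcls hξ)) = 1 := by
        rw [map_mul, hu, hu, _root_.mul_one]
      have := congrArg Subtype.val (e.trans e'.symm)
      rwa [PicGrp.pullHom_apply_val, PicGrp.pullHom_apply_val] at this
  have h2 := congrArg (pb (lift x (𝟙 W))) h
  simp only [map_mul, pb_pb, lift_whiskerLeft, Category.id_comp] at h2
  exact h2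

theorem ev_one_right (hX : AbDual.IsDualAV Scheme.fppfPrecoverage A At φ) (hξ : AbDual.IsPoincareCl A At φ ξ)
    {W : Over S} (x : W ⟶ A) : ev hξ x (1 : W ⟶ At) = 1 := by
  have h := ev_mul_right hX hξ x 1 1
  rw [_root_.mul_one] at h
  exact left_eq_mul.mp h

theorem ev_pow_right (hX : AbDual.IsDualAV Scheme.fppfPrecoverage A At φ) (hξ : AbDual.IsPoincareCl A At φ ξ)
    {W : Over S} (x : W ⟶ A) (y : W ⟶ At) (n : ℕ) : ev hξ x (y ^ n) = ev hξ x y ^ n := by
  induction n with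
  | zero => rw [pow_zero, pow_zero, ev_one_right hX]
  | succ n ih => rw [pow_succ, pow_succ, ev_mul_right hX, ih]

end Groth.Agent.AgPol22

end
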