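import Groth.Agent.Lib.AgPol22.Symm

/-!
# The pullback of a Poincaré class along the graph of a polarisation
-/

universe u

open CategoryTheory CategoryTheory.Limits MonoidalCategory CartesianMonoidalCategory AlgebraicGeometry

open scoped MonObj GrpObj CategoryTheory.Obj

set_option backward.isDefEq.respectTransparency false
set_option linter.style.haveILetI false
set_option maxHeartbeats 1000000

noncomputable section

namespace Groth.Agent.AgPol22

open Groth.Agent.AbDual21 Groth.Agent.PicDesc21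

noncomputable local instance instLawAgPolPoincare (Y : Scheme.{u}) : PicGrp.Law Y := M2.law Y

variable {S : Scheme.{u}} {A At : Over S} [GrpObj A] [IsCommMonObj A] [GrpObj At] [IsCommMonObj At]
  [IsProper A.hom] [Smooth A.hom] [GeometricallyConnected A.hom]
  {φ : AgPol.DualMap A At} {ξ : PicF.Cl (PicF.XT A.hom At)}

/-- The class of the pullback along the graph of `lam`. -/
def graphCl (hξ : AbDual.IsPoincareCl A At φ ξ) (lam : A ⟶ At) : PicLoc.PicSet A.left :=
  ev hξ (𝟙 A) lam

omit [IsCommMonObj A] [IsCommMonObj At] [IsProper A.hom] [Smooth A.hom] [GeometricallyConnected A.hom] in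
theorem graphCl_val (hξ : AbDual.IsPoincareCl A At φ ξ) (lam : A ⟶ At) :
    (graphCl hξ lam).1 = PicF.pullCl (pullback.lift (𝟙 A.left) lam.left
      ((Category.id_comp A.hom).trans (Over.w lam).symm)) ξ := by
  rw [graphCl, ev, PicGrp.pullHom_apply_val]
  rfl

theorem graphCl_pow (hX : AbDual.IsDualAV Scheme.fppfPrecoverage A At φ) (hξ : AbDual.IsPoincareCl A At φ ξ)
    (lam : A ⟶ At) (n : ℕ) : graphCl hξ (lam ^ n) = graphCl hξ lam ^ n :=
  ev_pow_right hX hξ _ _ n

/-- The Mumford class of the graph class is twice the class of `(1, lam)`. -/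
theorem corr_mul_corr (hX : AbDual.IsDualAV Scheme.fppfPrecoverage A At φ) (hξ : AbDual.IsPoincareCl A At φ ξ)
    (lam : A ⟶ At) (hpol : AgPol.IsPolarization A At φ lam) :
    corr hξ lam * corr hξ lam * pb (fst A A) (graphCl hξ lam) * pb (snd A A) (graphCl hξ lam) =
      pb μ[A] (graphCl hξ lam) := by
  haveI : IsMonHom lam := hpol.1
  have hs : ∀ {W : Over S} (x y : W ⟶ A), ev hξ x (y ≫ lam) = ev hξ y (x ≫ lam) := fun x y => by
    have h := congrArg (pb (lift x y)) (corr_symm hX hξ lam hpol)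
    rwa [pb_corr, pb_ev, lift_snd, lift_fst_assoc] at h
  have hadd : ∀ {W : Over S} (x y z : W ⟶ A), ev hξ x ((y * z) ≫ lam) = ev hξ x (y ≫ lam) * ev hξ x (z ≫ lam) :=
    fun x y z => by rw [MonObj.mul_comp, ev_mul_right hX]
  have hμ : μ[A] = fst A A * snd A A := by rw [Hom.mul_def, lift_fst_snd, Category.id_comp]
  simp only [corr, graphCl, pb_ev, Category.comp_id, hμ]
  rw [hadd, hs (fst A A * snd A A) (fst A A), hs (fst A A * snd A A) (snd A A), hadd, hadd,
    hs (snd A A) (fst A A)]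
  ac_rfl

theorem picZero_corr (hξ : AbDual.IsPoincareCl A At φ ξ) (lam : A ⟶ At) :
    AbDual.IsPicZeroCl A.hom A (corr hξ lam).1 := by
  rw [corr_val, PicGrp.pullHom_apply_val]
  exact picZero_whisker lam hξ.1

theorem picZero_corr_pow (hξ : AbDual.IsPoincareCl A At φ ξ) (lam : A ⟶ At) :
    ∀ n : ℕ, AbDual.IsPicZeroCl A.hom A (corr hξ lam ^ n).1
  | 0 => by rw [pow_zero, PicGrp.one_val]; exact picZero_one A
  | n + 1 => by
    rw [pow_succ, PicGrp.mul_val]
    exact picZero_mulCl (picZero_corr_pow hξ lam n) (picZero_corr hξ lam)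

theorem phi_corr_pow (hX : AbDual.IsDualAV Scheme.fppfPrecoverage A At φ) (hξ : AbDual.IsPoincareCl A At φ ξ)
    (lam : A ⟶ At) : ∀ n : ℕ, φ A (corr hξ lam ^ n).1 = lam ^ n
  | 0 => by rw [pow_zero, pow_zero, PicGrp.one_val]; exact phi_one hX A
  | n + 1 => by
    have h1 : φ A (corr hξ lam).1 = lam := by
      rw [corr_val, PicGrp.pullHom_apply_val]
      exact (phi_natural hX lam hξ.1).trans (by rw [hξ.2.1, Category.comp_id])
    rw [pow_succ, pow_succ, PicGrp.mul_val, phi_mul hX (picZero_corr_pow hξ lam n) (picZero_corr hξ lam),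
      phi_corr_pow hX hξ lam n, h1]

/-- Twice a polarisation is the homomorphism attached to the pullback of a Poincaré class along its graph. -/
theorem isLambda_sq (hX : AbDual.IsDualAV Scheme.fppfPrecoverage A At φ) (hξ : AbDual.IsPoincareCl A At φ ξ)
    (lam : A ⟶ At) (hpol : AgPol.IsPolarization A At φ lam) (L : A.left.Modules)
    (hL : PicF.cl L = (graphCl hξ lam).1) : AgPol.IsLambda A At φ L (lam * lam) := by
  obtain ⟨N, hN, hNE⟩ := PicGrp.exists_eq_cls (corr hξ lam * corr hξ lam)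
  obtain ⟨L', hL'i, hL'⟩ := PicGrp.exists_eq_cls (graphCl hξ lam)
  obtain ⟨i⟩ := (PicGrp.cl_eq_cl_iff L L').1 (hL.trans (congrArg Subtype.val hL'))
  refine ⟨N, hN, (PicGrp.cl_eq_cl_iff _ _).1 ?_, ?_⟩
  · have h := congrArg Subtype.val (corr_mul_corr hX hξ lam hpol)
    simp only [hNE, PicGrp.mul_val, PicGrp.pullHom_apply_val, PicGrp.cls_val, ← hL, PicLoc.pullCl_cl,
      PicGrp.mulCl_cl] at h
    exact h
  · have h : PicF.cl N = (corr hξ lam ^ 2).1 := by rw [pow_two, hNE]; rfl
    rw [h, phi_corr_pow hX hξ lam 2, pow_two]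

/-- Polarisations with equal graph classes of some power have equal even powers. -/
theorem pow_eq_pow (hX : AbDual.IsDualAV Scheme.fppfPrecoverage A At φ) (hξ : AbDual.IsPoincareCl A At φ ξ)
    (lam₁ lam₂ : A ⟶ At) (h₁ : AgPol.IsPolarization A At φ lam₁) (h₂ : AgPol.IsPolarization A At φ lam₂) (k : ℕ)
    (h : (graphCl hξ (lam₁ ^ k)).1 = (graphCl hξ (lam₂ ^ k)).1) : lam₁ ^ (2 * k) = lam₂ ^ (2 * k) := by
  have hg : graphCl hξ lam₁ ^ k = graphCl hξ lam₂ ^ k := by
    rw [← graphCl_pow hX, ← graphCl_pow hX]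
    exact Subtype.ext h
  have e₁ := congrArg (· ^ k) (corr_mul_corr hX hξ lam₁ h₁)
  have e₂ := congrArg (· ^ k) (corr_mul_corr hX hξ lam₂ h₂)
  simp only [_root_.mul_pow, ← map_pow, hg] at e₁ e₂
  rw [← e₂] at e₁
  have e := mul_right_cancel (mul_right_cancel e₁)
  rw [← phi_corr_pow hX hξ lam₁ (2 * k), ← phi_corr_pow hX hξ lam₂ (2 * k)]
  rw [pow_mul, pow_mul, pow_two, pow_two, _root_.mul_pow, _root_.mul_pow, e]

end Groth.Agent.AgPol22

end
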