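import Groth.Agent.Lib.PicSep22.Weil
import Groth.Agent.Lib.AbRigid.Shear
import Groth.Agent.Lib.AbDual21.Phi
import Mathlib.AlgebraicGeometry.Sites.Fpqc

/-!
# Dividing a homomorphism by an integer
-/

universe u

open CategoryTheory CategoryTheory.Limits MonoidalCategory CartesianMonoidalCategory AlgebraicGeometry

open scoped MonObj GrpObj CategoryTheory.Obj

set_option backward.isDefEq.respectTransparency false
set_option linter.style.haveILetI false

noncomputable section

namespace Groth.Agent.AgPol22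

variable {S : Scheme.{u}} {A B : Over S} [GrpObj A] [GrpObj B] (n : ℕ)

/-- `f` kills the points killed by `n` which live over `T`. -/
def KillsOver (f : A ⟶ B) (T : Over S) : Prop :=
  ∀ ⦃W : Over S⦄ (_ : W ⟶ T) (w : W ⟶ A), w ^ n = 1 → w ≫ f = 1

theorem comp_powMap {W : Over S} (w : W ⟶ A) : w ≫ (𝟙 A ^ n) = w ^ n := by
  rw [MonObj.comp_pow, Category.comp_id]

/-- A homomorphism which kills the points killed by `n` is an `n`-th power. -/
theorem exists_root [IsCommMonObj A] [IsCommMonObj B] (f : A ⟶ B) [IsMonHom f] [Flat (𝟙 A ^ n).left] [Surjective (𝟙 A ^ n).left]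
    [QuasiCompact (𝟙 A ^ n).left] (h : ∀ {W : Over S} (w : W ⟶ A), w ^ n = 1 → w ≫ f = 1) :
    ∃ m : A ⟶ B, IsMonHom m ∧ m ^ n = f := by
  let q : A ⟶ A := 𝟙 A ^ n
  have hw : ∀ {Z : Scheme.{u}} (g₁ g₂ : Z ⟶ A.left), g₁ ≫ q.left = g₂ ≫ q.left → g₁ ≫ f.left = g₂ ≫ f.left := by
    intro Z g₁ g₂ e
    have hg : g₁ ≫ A.hom = g₂ ≫ A.hom := by
      rw [← Over.w q, reassoc_of% e]
    let W : Over S := Over.mk (g₁ ≫ A.hom)
    let w₁ : W ⟶ A := Over.homMk g₁
    let w₂ : W ⟶ A := Over.homMk g₂ hg.symm
    have e' : w₁ ^ n = w₂ ^ n := by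
      refine (comp_powMap n w₁).symm.trans (Eq.trans ?_ (comp_powMap n w₂))
      exact Over.OverMorphism.ext e
    have e2 : (w₁ * w₂⁻¹) ^ n = 1 := by
      letI := Hom.commGroup (X := W) (G := A)
      rw [_root_.mul_pow, inv_pow, e', mul_inv_cancel]
    have e3 := h _ e2
    have e4 : w₁ ≫ f = w₂ ≫ f := by
      conv_lhs => rw [← inv_mul_cancel_right w₁ w₂]
      rw [MonObj.mul_comp, e3, _root_.one_mul]
    exact congrArg Over.Hom.left e4
  let m₀ : A.left ⟶ B.left := EffectiveEpi.desc q.left f.left fun g₁ g₂ e => hw g₁ g₂ e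
  have hm : q.left ≫ m₀ = f.left := EffectiveEpi.fac q.left _ _
  let m : A ⟶ B := Over.homMk m₀ (by rw [← cancel_epi q.left, reassoc_of% hm, Over.w f, Over.w q])
  have hqm : q ≫ m = f := Over.OverMorphism.ext hm
  have hepi : ∀ {C : Over S} {u v : A ⟶ C}, q ≫ u = q ≫ v → u = v := fun {C u v} e => by
    apply Over.OverMorphism.ext
    rw [← cancel_epi q.left]
    exact congrArg Over.Hom.left e
  haveI : IsMonHom m := by
    refine ⟨?_, ?_⟩
    · have e1 : η[A] ≫ q = η[A] := by
        rw [comp_powMap, show η[A] = (1 : 𝟙_ (Over S) ⟶ A) by rw [Hom.one_def, toUnit_unit, Category.id_comp],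
          _root_.one_pow]
      rw [← e1, Category.assoc, hqm, IsMonHom.one_hom]
    · let π₁ : A ⊗ A ⟶ A ⊗ A := q ▷ A
      let π₂ : A ⊗ A ⟶ A ⊗ A := A ◁ q
      have sq₁ := (AbRigid.isPullback_whiskerRight q A).map (Over.forget S)
      have sq₂ := (AbRigid.isPullback_whiskerLeft q A).map (Over.forget S)
      haveI hf : Flat q.left := ‹_›
      haveI hs : Surjective q.left := ‹_›
      haveI hc : QuasiCompact q.left := ‹_›
      haveI : Flat π₁.left := MorphismProperty.of_isPullback sq₁ hf
      haveI : Surjective π₁.left := MorphismProperty.of_isPullback sq₁ hs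
      haveI : QuasiCompact π₁.left := MorphismProperty.of_isPullback sq₁ hc
      haveI : Flat π₂.left := MorphismProperty.of_isPullback sq₂ hf
      haveI : Surjective π₂.left := MorphismProperty.of_isPullback sq₂ hs
      haveI : QuasiCompact π₂.left := MorphismProperty.of_isPullback sq₂ hc
      have hμ : μ[A] = fst A A * snd A A := by rw [Hom.mul_def, lift_fst_snd, Category.id_comp]
      let π : A ⊗ A ⟶ A ⊗ A := lift (fst A A ≫ q) (snd A A ≫ q)
      have hπ : π = π₁ ≫ π₂ := by
        apply CartesianMonoidalCategory.hom_ext <;> simp [π, π₁, π₂]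
      have hπμ : π ≫ μ[A] = μ[A] ≫ q := by
        letI := Hom.commGroup (X := A ⊗ A) (G := A)
        rw [show π ≫ μ[A] = (fst A A ≫ q) * (snd A A ≫ q) from (Hom.mul_def _ _).symm, comp_powMap, comp_powMap,
          comp_powMap, hμ, ← _root_.mul_pow]
      have hmm : (m ⊗ₘ m) ≫ μ[B] = (fst A A ≫ m) * (snd A A ≫ m) := by
        rw [Hom.mul_def]
        congr 1
      have e : π ≫ μ[A] ≫ m = π ≫ (m ⊗ₘ m) ≫ μ[B] := by
        rw [hmm, MonObj.comp_mul, ← Category.assoc π μ[A], hπμ, Category.assoc, hqm]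
        rw [lift_fst_assoc, lift_snd_assoc, Category.assoc, Category.assoc, hqm, hμ, MonObj.mul_comp]
      rw [hπ, Category.assoc, Category.assoc] at e
      have e3 := congrArg Over.Hom.left e
      simp only [Over.comp_left] at e3
      apply Over.OverMorphism.ext
      rw [Over.comp_left, Over.comp_left, ← cancel_epi π₂.left, ← cancel_epi π₁.left]
      exact e3
  refine ⟨m, inferInstance, ?_⟩
  rw [show m ^ n = q ≫ m by rw [MonObj.pow_comp, Category.id_comp], hqm]

/-- The locus where `f` kills the points killed by `n` is closed. -/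
theorem exists_killsOver [IsSeparated B.hom] (f : A ⟶ B) [IsFinite (𝟙 A ^ n).left] [Flat (𝟙 A ^ n).left]
    [LocallyOfFinitePresentation (𝟙 A ^ n).left] :
    ∃ (Z : Scheme.{u}) (i : Z ⟶ S), IsClosedImmersion i ∧
      ∀ T : Over S, (∃ l : T.left ⟶ Z, l ≫ i = T.hom) ↔ KillsOver n f T := by
  let e : S ⟶ A.left := η[A].left
  have he : e ≫ A.hom = 𝟙 S := Over.w η[A]
  let q := (𝟙 A ^ n).left
  let k : pullback q e ⟶ S := pullback.snd q e
  haveI : IsFinite k := inferInstance
  haveI : Flat k := inferInstance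
  haveI : LocallyOfFinitePresentation k := inferInstance
  let K : Over S := Over.mk k
  let ι₀ : K ⟶ A := Over.homMk (pullback.fst q e) (by
    show pullback.fst q e ≫ A.hom = k
    rw [← Over.w (𝟙 A ^ n), ← Category.assoc, pullback.condition, Category.assoc, he, Category.comp_id])
  let g : K.left ⟶ pullback B.hom B.hom := pullback.lift (ι₀ ≫ f).left (1 : K ⟶ B).left
    ((Over.w (ι₀ ≫ f)).trans (Over.w (1 : K ⟶ B)).symm)
  let ie := pullback.snd (pullback.diagonal B.hom) g
  haveI : IsClosedImmersion ie := inferInstance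
  obtain ⟨Z, i, hi, hZ⟩ := PicSep22.exists_weil k ie
  refine ⟨Z, i, hi, fun T => (hZ T.left T.hom).trans ⟨?_, ?_⟩⟩
  · rintro ⟨z, hz⟩ W t w hw
    have hwe : w.left ≫ q = W.hom ≫ e := by
      show (w ≫ (𝟙 A ^ n)).left = _
      rw [comp_powMap, hw]
      rfl
    let v : W.left ⟶ pullback k T.hom := pullback.lift (pullback.lift w.left W.hom hwe) t.left (by
      rw [pullback.lift_snd, Over.w t])
    let wK : W ⟶ K := Over.homMk (pullback.lift w.left W.hom hwe) (pullback.lift_snd _ _ _)
    have hwK : wK ≫ ι₀ = w := Over.OverMorphism.ext (pullback.lift_fst _ _ _)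
    have h1 : v ≫ z ≫ ie = wK.left := by
      rw [hz]; exact pullback.lift_fst _ _ _
    have h2 := congrArg (fun x => (v ≫ z) ≫ x ≫ pullback.fst B.hom B.hom)
      (pullback.condition (f := pullback.diagonal B.hom) (g := g))
    have h3 := congrArg (fun x => (v ≫ z) ≫ x ≫ pullback.snd B.hom B.hom)
      (pullback.condition (f := pullback.diagonal B.hom) (g := g))
    simp only [Category.assoc, pullback.diagonal_fst, pullback.diagonal_snd, Category.comp_id] at h2 h3
    rw [← hwK, Category.assoc, ← MonObj.comp_one (f := wK)]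
    apply Over.OverMorphism.ext
    have h4 := h2.symm.trans h3
    simp only [ie, g, pullback.lift_fst, pullback.lift_snd] at h4
    rw [reassoc_of% h1, reassoc_of% h1] at h4
    exact h4
  · intro h
    let W : Over S := Over.mk (pullback.fst k T.hom ≫ k)
    let t : W ⟶ T := Over.homMk (pullback.snd k T.hom) pullback.condition.symm
    let wK : W ⟶ K := Over.homMk (pullback.fst k T.hom) rfl
    have hι : ι₀ ^ n = 1 := by
      rw [← comp_powMap]
      apply Over.OverMorphism.ext
      exact pullback.condition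
    have h1 := h t (wK ≫ ι₀) (by rw [← MonObj.comp_pow, hι, MonObj.comp_one])
    rw [Category.assoc, ← MonObj.comp_one (f := wK)] at h1
    have h2 := congrArg Over.Hom.left h1
    refine ⟨pullback.lift ((wK ≫ ι₀ ≫ f).left) (pullback.fst k T.hom) ?_, pullback.lift_snd _ _ _⟩
    apply pullback.hom_ext
    · rw [Category.assoc, Category.assoc, pullback.diagonal_fst, Category.comp_id]
      simp only [g, pullback.lift_fst]
      rfl
    · rw [Category.assoc, Category.assoc, pullback.diagonal_snd, Category.comp_id]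
      simp only [g, pullback.lift_snd]
      exact h2

end Groth.Agent.AgPol22

end
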