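import Groth.Agent.Lib.AgPol22.Hom
import Groth.Agent.Lib.AgPol22.Power
import Groth.Agent.Lib.AbDual22.BaseChange

/-!
# The homomorphism attached to an invertible module after base change
-/

universe u

open CategoryTheory CategoryTheory.Limits MonoidalCategory CartesianMonoidalCategory AlgebraicGeometry

open scoped MonObj GrpObj

set_option backward.isDefEq.respectTransparency false
set_option linter.style.haveILetI false
set_option maxHeartbeats 1000000
set_option synthInstance.maxHeartbeats 200000

noncomputable section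

namespace Groth.Agent.AgPol22

open Groth.Agent.AbDual21 Groth.Agent.PicDesc21 Groth.Agent.DiagGL

noncomputable local instance instLawAgPolSubscheme (Y : Scheme.{u}) : PicGrp.Law Y := M2.law Y

variable {S S' : Scheme.{u}} (β : S' ⟶ S) (A : Over S) [GrpObj A]

theorem fl_left {G : Over S} [GrpObj G] {T : Over S'} (x : T ⟶ Red.bc β G) :
    (fl β G x).left = x.left ≫ pullback.fst G.hom β := rfl

theorem fl_one {T : Over S'} : fl β A (1 : T ⟶ Red.bc β A) = 1 := by
  have h := fl_mul β A (1 : T ⟶ Red.bc β A) 1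
  rw [_root_.mul_one] at h
  exact left_eq_mul.mp h

theorem fl_pow {T : Over S'} (x : T ⟶ Red.bc β A) (n : ℕ) : fl β A (x ^ n) = fl β A x ^ n := by
  induction n with
  | zero => rw [pow_zero, pow_zero, fl_one]
  | succ n ih => rw [pow_succ, pow_succ, fl_mul, ih]

theorem killsOver_iff {B : Over S} [GrpObj B] (n : ℕ) (f : A ⟶ B) :
    KillsOver n f (Over.mk β) ↔
      ∀ {W : Over S'} (w : W ⟶ Red.bc β A), w ^ n = 1 → w ≫ (Over.pullback β).map f = 1 := by
  constructor
  · intro h W w hw
    refine fl_injective β B ?_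
    rw [fl_comp_map, fl_one]
    exact @h ((Over.map β).obj W) (Over.homMk W.hom rfl) (fl β A w) (by rw [← fl_pow, hw, fl_one])
  · intro h W t w hw
    let W₁ : Over S' := Over.mk t.left
    let c : (Over.map β).obj W₁ ⟶ W := Over.homMk (𝟙 W.left) ((Category.id_comp _).trans (Over.w t).symm)
    obtain ⟨w₁, hw₁⟩ := fl_surjective β A (c ≫ w)
    have h1 := h w₁ (fl_injective β A (by rw [fl_pow, hw₁, fl_one, ← MonObj.comp_pow, hw, MonObj.comp_one]))
    have h2 := congrArg (fl β B) h1
    rw [fl_comp_map, hw₁, fl_one, Category.assoc, ← MonObj.comp_one (f := c)] at h2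
    apply Over.OverMorphism.ext
    have h3 := congrArg Over.Hom.left h2
    exact (Category.id_comp _).symm.trans (h3.trans (Category.id_comp _))

variable {A} [IsProper A.hom] [Smooth A.hom] [GeometricallyConnected A.hom] {L : A.left.Modules}

theorem cls_fl (hL : PicF.IsInvertible L) {W : Over S'} (x : W ⟶ Red.bc β A) :
    Seesaw22.cls ((Scheme.Modules.pullback (pullback.fst A.hom β)).obj L) (PicLoc.isInvertible_pullback _ hL) x =
      Seesaw22.cls L hL (fl β A x) :=
  Subtype.ext (M2.cl_eq_of_iso ((Scheme.Modules.pullbackComp x.left (pullback.fst A.hom β)).app L))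

/-- The homomorphism attached to the base change of a module is the base change of the one attached to it, and
it is determined by the module. -/
theorem isLambda_bc_iff {At : Over S} [GrpObj At] {φ : AgPol.DualMap A At}
    (hX : AbDual.IsDualAV Scheme.fppfPrecoverage A At φ) (hL : PicF.IsInvertible L)
    {N : (PicF.XT A.hom A).Modules} (hN : PicF.IsInvertible N)
    (hs : AgPol.IsLambdaSheaf (μ[A].left : PicF.XT A.hom A ⟶ A.left) (fst A A).left (snd A A).left L N)
    (lam : Red.bc β A ⟶ Red.bc β At) :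
    AgPol.IsLambda (Red.bc β A) (Red.bc β At) (AgPol.bcDual β A At φ)
        ((Scheme.Modules.pullback (pullback.fst A.hom β)).obj L) lam ↔
      lam = (Over.pullback β).map (φ A (PicF.cl N)) := by
  haveI := PicSep22.geometricallyIntegral_of_smooth A.hom
  let G : Over S' := Red.bc β A
  let W' : Over S := (Over.map β).obj (G ⊗ G)
  let w : W' ⟶ A ⊗ A := lift (fl β A (fst G G)) (fl β A (snd G G))
  let a : (Over.map β).obj G ⟶ A := fl β A (𝟙 G)
  let hLG := PicLoc.isInvertible_pullback (pullback.fst A.hom β) hL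
  obtain ⟨N', hN', hN'e⟩ : ∃ (N' : (PicF.XT G.hom G).Modules) (hN' : PicF.IsInvertible N'),
      (PicGrp.cls N' hN' : PicLoc.PicSet (G ⊗ G).left) = mcls hN w := by
    obtain ⟨N', hN', h⟩ := PicGrp.exists_eq_cls (mcls hN w : PicLoc.PicSet (G ⊗ G).left)
    exact ⟨N', hN', h.symm⟩
  have hμ : μ[G] = fst G G * snd G G := by rw [Hom.mul_def, lift_fst_snd, Category.id_comp]
  have heq : (PicGrp.cls N' hN' : PicLoc.PicSet (G ⊗ G).left) * Seesaw22.cls _ hLG (fst G G) *
      Seesaw22.cls _ hLG (snd G G) = Seesaw22.cls _ hLG μ[G] := by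
    rw [hN'e, cls_fl β hL, cls_fl β hL, cls_fl β hL, hμ, fl_mul]
    have h := mcls_mul (hL := hL) (hN := hN) hs w
    rw [lift_fst, lift_snd] at h
    exact h
  have hs' : AgPol.IsLambdaSheaf (μ[G].left : PicF.XT G.hom G ⟶ G.left) (fst G G).left (snd G G).left
      ((Scheme.Modules.pullback (pullback.fst A.hom β)).obj L) N' := by
    have h := congrArg Subtype.val heq
    simp only [Seesaw22.cls, PicGrp.mul_val, PicGrp.cls_val, PicGrp.mulCl_cl] at h
    exact (PicGrp.cl_eq_cl_iff _ _).1 h
  have hφ : AgPol.bcDual β A At φ G (PicF.cl N') = (Over.pullback β).map (φ A (PicF.cl N)) := by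
    refine fl_injective β At ?_
    rw [show (Over.pullback β).map (φ A (PicF.cl N)) = 𝟙 G ≫ (Over.pullback β).map (φ A (PicF.cl N)) from
      (Category.id_comp _).symm, fl_comp_map, ← phi_natural hX (fl β A (𝟙 G)) (picZero_mum hL hN hs)]
    apply Over.OverMorphism.ext
    rw [fl_left]
    simp only [AgPol.bcDual, Over.homMk_left]
    rw [pullback.lift_fst]
    refine congrArg (fun c => (φ ((Over.map β).obj G) c).left) ?_
    rw [show PicF.cl N' = (mcls hN w).1 from congrArg Subtype.val hN'e, mcls, PicGrp.pullHom_apply_val]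
    refine (pullCl_pullCl _ _ _).trans (congrArg (PicF.pullCl · (PicF.cl N)) ?_)
    apply pullback.hom_ext
    · refine (Category.assoc _ _ _).trans ?_
      refine (congrArg ((AgPol.bcXTIso β A G).inv ≫ ·)
        (congrArg Over.Hom.left (lift_fst (fl β A (fst G G)) (fl β A (snd G G))))).trans ?_
      refine Eq.trans ?_ (congrArg Over.Hom.left (whiskerLeft_fst A a)).symm
      simp [fl_left, AgPol.bcXTIso, G]
    · refine (Category.assoc _ _ _).trans ?_
      refine (congrArg ((AgPol.bcXTIso β A G).inv ≫ ·)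
        (congrArg Over.Hom.left (lift_snd (fl β A (fst G G)) (fl β A (snd G G))))).trans ?_
      refine Eq.trans ?_ (congrArg Over.Hom.left (whiskerLeft_snd A a)).symm
      simp [fl_left, AgPol.bcXTIso, G, a]
  constructor
  · rintro ⟨M, hM, hMs, rfl⟩
    rw [← hφ]
    refine congrArg (AgPol.bcDual β A At φ G) ?_
    have h₁ := mcls_mul (hL := hLG) (hN := hM) hMs (𝟙 (G ⊗ G))
    have h₂ := mcls_mul (hL := hLG) (hN := hN') hs' (𝟙 (G ⊗ G))
    have h' : mcls hM (𝟙 (G ⊗ G)) = mcls hN' (𝟙 (G ⊗ G)) := mul_right_cancel (mul_right_cancel (h₁.trans h₂.symm))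
    have h := congrArg Subtype.val h'
    simp only [mcls, PicGrp.pullHom_apply_val, PicGrp.cls_val, Over.id_left] at h
    exact (PicLoc.pullCl_id _).symm.trans (h.trans (PicLoc.pullCl_id _))
  · rintro rfl
    exact ⟨N', hN', hs', hφ⟩

end Groth.Agent.AgPol22

end
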