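import Groth.Agent.Lib.AgPol22.Pair
import Groth.Agent.Lib.AgPol22.Fibre

/-!
# Symmetry of polarisations with respect to a Poincaré class
-/

universe u

open CategoryTheory CategoryTheory.Limits MonoidalCategory CartesianMonoidalCategory AlgebraicGeometry

open scoped MonObj GrpObj CategoryTheory.Obj

set_option backward.isDefEq.respectTransparency false
set_option linter.style.haveILetI false
set_option maxHeartbeats 1000000

noncomputable section

namespace Groth.Agent.AgPol22

open Groth.Agent.Seesaw22 Groth.Agent.CubeField Groth.Agent.AbDual21 Groth.Agent.PicDesc21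

noncomputable local instance instLawAgPolSymm (Y : Scheme.{u}) : PicGrp.Law Y := M2.law Y

variable {S : Scheme.{u}} {A At : Over S} [GrpObj A] [GrpObj At] [IsProper A.hom] [Smooth A.hom]
  [GeometricallyConnected A.hom]

/-- A class on `A × A` which is trivial on the slice through the unit is algebraically trivial on fibres. -/
theorem picZero_of_slice [GeometricallyIntegral A.hom] (E : PicLoc.PicSet (A ⊗ A).left)
    (hE : ∀ {W : Over S}, pb (A ◁ (1 : W ⟶ A)) E = 1) : AbDual.IsPicZeroCl A.hom A E.1 := by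
  obtain ⟨N, hN, rfl⟩ := PicGrp.exists_eq_cls E
  rw [isPicZeroCl_iff]
  refine ⟨⟨N, rfl, hN⟩, fun Ω _ _ σ => ?_⟩
  let p : Spec (CommRingCat.of Ω) ⟶ S := σ ≫ A.hom
  let T' : Over S := A ⊗ Over.mk p
  let q : T'.left ⟶ Spec (CommRingCat.of Ω) := (snd A (Over.mk p)).left
  have : ConnectedSpace T'.left := by
    have : IsIntegral (pullback A.hom p) :=
      GeometricallyIntegral.isIntegral_of_subsingleton (pullback.snd A.hom p)
    exact inferInstanceAs (ConnectedSpace ↥(pullback A.hom p))
  have : LocallyOfFiniteType q := inferInstanceAs (LocallyOfFiniteType (pullback.snd A.hom p))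
  have : QuasiCompact q := inferInstanceAs (QuasiCompact (pullback.snd A.hom p))
  let t₀ : Over.mk p ⟶ T' := lift (1 : Over.mk p ⟶ A) (𝟙 _)
  have ht₀ : t₀.left ≫ q = 𝟙 _ := congrArg CommaMorphism.left (lift_snd (1 : Over.mk p ⟶ A) (𝟙 _))
  let W₀ : Over S := AbDual.ovr T' t₀.left
  have e1 : AbDual.ovrHom T' t₀.left ≫ fst A (Over.mk p) = (1 : W₀ ⟶ A) := by
    apply Over.OverMorphism.ext
    change t₀.left ≫ (fst A (Over.mk p)).left = _
    rw [← Over.comp_left, lift_fst]
    change (toUnit (Over.mk p) ≫ η[A]).left = (toUnit W₀ ≫ η[A]).left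
    simp only [W₀, Over.comp_left, Over.toUnit_left, Over.w t₀, AbDual.ovr]
    congr 1
    exact (Over.w t₀).symm
  have h0 : PicF.IsTrivialCl (PicF.pullCl (PicF.XTmap A.hom (AbDual.ovrHom T' t₀.left))
      (mum N (fst A (Over.mk p)))) := by
    rw [mum, XTmap_eq, pullCl_pullCl, ← Over.comp_left, ← whiskerLeft_comp, e1]
    have h3 := congrArg Subtype.val (hE (W := W₀))
    rw [PicGrp.one_val, PicGrp.pullHom_apply_val] at h3
    exact h3
  have hz := picZero_of_family (f := A.hom) q (σ := p)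
    (congrArg (fun g => g) (Over.w (snd A (Over.mk p)))) t₀.left ht₀
    (isInvertibleCl_pull _ ⟨N, rfl, hN⟩) h0
  obtain ⟨-, hz⟩ := isPicZeroCl_iff.1 hz
  let s : Spec (CommRingCat.of Ω) ⟶ T'.left := pullback.lift σ (𝟙 _) (Category.id_comp _).symm
  have hs1 : s ≫ (fst A (Over.mk p)).left = σ := pullback.lift_fst _ _ _
  let kk : pullback (PicF.XTproj A.hom A) σ ⟶ pullback (PicF.XTproj A.hom T') s :=
    pullback.lift (pullback.lift (pullback.fst _ _ ≫ pullback.fst A.hom A.hom) (pullback.snd _ _ ≫ s) (by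
      have e : s ≫ T'.hom = σ ≫ A.hom := by
        rw [← Over.w (fst A (Over.mk p)), ← Category.assoc, hs1]
      simp [e, pullback.condition, pullback.condition_assoc])) (pullback.snd _ _) (pullback.lift_snd _ _ _)
  have h1 := algZ_pull kk (pullback.lift_snd _ _ _) (hz Ω s)
  have e2 : kk ≫ pullback.fst (PicF.XTproj A.hom T') s ≫ (A ◁ fst A (Over.mk p)).left = pullback.fst _ _ := by
    rw [pullback.lift_fst_assoc, ← XTmap_eq]
    apply pullback.hom_ext
    · simp [PicF.XTmap]
      apply pullback.lift_fst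
    · simp [PicF.XTmap, pullback.condition]
      refine (pullback.lift_snd_assoc (f := A.hom) _ _ _ _).trans ?_
      exact (Category.assoc _ _ _).trans (congrArg _ hs1)
  rw [pullCl_pullCl, pullCl_pullCl] at h1
  rw [Category.assoc, e2] at h1
  exact h1

omit [GrpObj A] [GrpObj At] [IsProper A.hom] [Smooth A.hom] [GeometricallyConnected A.hom] in
theorem lift_left_fst {X Y W : Over S} (a : W ⟶ X) (b : W ⟶ Y) :
    (lift a b).left ≫ pullback.fst X.hom Y.hom = a.left :=
  congrArg Over.Hom.left (lift_fst a b)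

omit [GrpObj A] [GrpObj At] [IsProper A.hom] [Smooth A.hom] [GeometricallyConnected A.hom] in
theorem lift_left_snd {X Y W : Over S} (a : W ⟶ X) (b : W ⟶ Y) :
    (lift a b).left ≫ pullback.snd X.hom Y.hom = b.left :=
  congrArg Over.Hom.left (lift_snd a b)

variable [IsCommMonObj A] {φ : AgPol.DualMap A At} {ξ : PicF.Cl (PicF.XT A.hom At)}

/-- The class of `(1, lam)` on `A × A`. -/
def corr (hξ : AbDual.IsPoincareCl A At φ ξ) (lam : A ⟶ At) : PicLoc.PicSet (A ⊗ A).left :=
  ev hξ (fst A A) (snd A A ≫ lam)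

omit [IsProper A.hom] [Smooth A.hom] [GeometricallyConnected A.hom] [IsCommMonObj A] in
theorem pb_corr (hξ : AbDual.IsPoincareCl A At φ ξ) (lam : A ⟶ At) {W : Over S} (x y : W ⟶ A) :
    pb (lift x y) (corr hξ lam) = ev hξ x (y ≫ lam) := by
  rw [corr, pb_ev, lift_fst, lift_snd_assoc]

omit [IsProper A.hom] [Smooth A.hom] [GeometricallyConnected A.hom] [IsCommMonObj A] in
theorem corr_val (hξ : AbDual.IsPoincareCl A At φ ξ) (lam : A ⟶ At) :
    corr hξ lam = pb (A ◁ lam) (pcls hξ) := by
  rw [corr, ev]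
  rw [show lift (fst A A) (snd A A ≫ lam) = A ◁ lam by
    apply CartesianMonoidalCategory.hom_ext <;> simp]

/-- On a geometric fibre the class of `(1, lam)` is symmetric. -/
theorem corr_symm_geometric (hX : AbDual.IsDualAV Scheme.fppfPrecoverage A At φ)
    (hξ : AbDual.IsPoincareCl A At φ ξ) (lam : A ⟶ At) [IsMonHom lam]
    {Ω : Type u} [Field Ω] [IsAlgClosed Ω] (t : Spec (CommRingCat.of Ω) ⟶ S)
    (ht : ∃ M : (Red.bc t A).left.Modules, CohB1.IsAmple M ∧
      AgPol.IsLambda (Red.bc t A) (Red.bc t At) (AgPol.bcDual t A At φ) M ((Over.pullback t).map lam))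
    (a : Over.mk (pullback.snd A.hom t ≫ t) ⟶ A) (ha : a.left = pullback.fst A.hom t) :
    pb (A ◁ a) (corr hξ lam) = pb (A ◁ a) (ev hξ (snd A A) (fst A A ≫ lam)) := by
  obtain ⟨M, hMa, N, hN, hs, hφN⟩ := ht
  have hM : PicF.IsInvertible M := hMa.1
  haveI := PicSep22.geometricallyIntegral_of_smooth A.hom
  haveI := AbRigid.geometricallyReduced_of_smooth A.hom
  let G : Over (Spec (CommRingCat.of Ω)) := Red.bc t A
  haveI : IsProper G.hom := inferInstanceAs (IsProper (pullback.snd A.hom t))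
  haveI : GeometricallyIntegral G.hom := inferInstanceAs (GeometricallyIntegral (pullback.snd A.hom t))
  let V : Over S := Over.mk (pullback.snd A.hom t ≫ t)
  let F := Over.pullback t
  let j := AgPol.bcXTIso t A G
  have hj1 : j.inv ≫ pullback.fst G.hom G.hom ≫ pullback.fst A.hom t = pullback.fst A.hom V.hom := by
    simp [j, AgPol.bcXTIso, G, V]
  have hj2 : j.inv ≫ pullback.snd G.hom G.hom = pullback.snd A.hom V.hom := by
    simp [j, AgPol.bcXTIso, G, V]
  -- the point of the dual
  have hN0 : AbDual.IsPicZeroCl A.hom V (PicF.pullCl j.inv (PicF.cl N)) := by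
    obtain ⟨hi, hz⟩ := isPicZeroCl_iff.1 (picZero_mum hM hN hs)
    rw [isPicZeroCl_iff]
    refine ⟨isInvertibleCl_pull _ hi, fun Ω' _ _ σ => ?_⟩
    let kk : pullback (PicF.XTproj A.hom V) σ ⟶ pullback (PicF.XTproj G.hom G) σ :=
      pullback.lift (pullback.fst _ _ ≫ j.inv) (pullback.snd _ _)
        (by rw [Category.assoc, ← pullback.condition]; exact congrArg _ hj2)
    have h1 := algZ_pull kk (pullback.lift_snd _ _ _) (hz Ω' σ)
    rw [pullCl_pullCl, pullback.lift_fst] at h1
    rwa [pullCl_pullCl]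
  have hφ' : φ V (PicF.pullCl j.inv (PicF.cl N)) = a ≫ lam := by
    apply Over.OverMorphism.ext
    have h := congrArg (fun m => m.left ≫ pullback.fst At.hom t) hφN
    simp only [Over.pullback_map_left] at h
    erw [pullback.lift_fst, pullback.lift_fst] at h
    rw [Over.comp_left, ha]
    exact h
  -- rigidification
  have hone : (1 : G ⟶ G).left ≫ pullback.fst A.hom t = (1 : V ⟶ A).left := by
    have h1 : F.map (1 : A ⟶ A) = (1 : F.obj A ⟶ F.obj A) := map_one (F.homMonoidHom (X := A) (M := A))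
    have h2 := congrArg (fun m => m.left ≫ pullback.fst A.hom t) h1
    simp only [F, Over.pullback_map_left] at h2
    erw [pullback.lift_fst] at h2
    refine h2.symm.trans ?_
    rw [← ha, ← Over.comp_left, MonObj.comp_one]
  have hsec : (lift (1 : V ⟶ A) (𝟙 V)).left ≫ j.inv = (lift (1 : G ⟶ G) (𝟙 G)).left := by
    apply pullback.hom_ext
    · apply pullback.hom_ext
      · rw [Category.assoc, Category.assoc, hj1]
        refine (lift_left_fst (1 : V ⟶ A) (𝟙 V)).trans (hone.symm.trans ?_)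
        exact congrArg (· ≫ pullback.fst A.hom t) (lift_left_fst (1 : G ⟶ G) (𝟙 G)).symm
      · rw [Category.assoc, Category.assoc]
        refine Eq.trans ?_ ((Over.w (1 : G ⟶ G)).symm.trans
          (congrArg (· ≫ G.hom) (lift_left_fst (1 : G ⟶ G) (𝟙 G)).symm))
        refine (congrArg (fun z => (lift (1 : V ⟶ A) (𝟙 V)).left ≫ j.inv ≫ z)
          (pullback.condition (f := G.hom) (g := G.hom))).trans ?_
        rw [← Category.assoc j.inv, hj2, ← Category.assoc]
        exact (congrArg (· ≫ G.hom) (lift_left_snd (1 : V ⟶ A) (𝟙 V))).trans (Category.id_comp _)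
    · rw [Category.assoc, hj2]
      exact (lift_left_snd (1 : V ⟶ A) (𝟙 V)).trans (lift_left_snd (1 : G ⟶ G) (𝟙 G)).symm
  have hu : PicF.pullCl (lift (1 : G ⟶ G) (𝟙 G)).left (PicF.cl N) = PicF.cl (Coh.structureModule _) := by
    have h := mcls_mul (hL := hM) (hN := hN) hs (lift (1 : G ⟶ G) (𝟙 G))
    rw [lift_fst, lift_snd, _root_.one_mul] at h
    have h2 : Seesaw22.cls M hM (1 : G ⟶ G) = 1 := by
      rw [← MonObj.comp_one (f := toUnit G), ← Seesaw22.pullHom_cls, cls_one_field (Ω := Ω) rfl, map_one]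
    rw [h2, _root_.mul_one, mul_eq_right] at h
    have h3 := congrArg Subtype.val h
    rw [PicGrp.one_val, mcls, PicGrp.pullHom_apply_val] at h3
    exact h3
  have hP : (pb (A ◁ a) (corr hξ lam)).1 = PicF.pullCl j.inv (PicF.cl N) := by
    have hv : (pb (A ◁ a) (corr hξ lam)).1 = PicF.pullCl (A ◁ (a ≫ lam)).left ξ := by
      rw [corr_val, pb_pb, ← whiskerLeft_comp]
      exact PicGrp.pullHom_apply_val ..
    rw [hv]
    refine KernelKL22.eq_of_phi hX (picZero_whisker _ hξ.1) hN0 ?_ ?_
    · rw [hφ', phi_natural hX _ hξ.1, hξ.2.1, Category.comp_id]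
    · simp only [unitCl, pullCl_pullCl]
      rw [hsec, hu, ← Over.comp_left, lift_whiskerLeft, Category.id_comp]
      have h := congrArg Subtype.val (ev_one_left hξ (a ≫ lam))
      rw [PicGrp.one_val, ev, PicGrp.pullHom_apply_val] at h
      exact h
  -- symmetry
  have hsymm : mcls hN (lift (snd G G) (fst G G)) = mcls hN (𝟙 (G ⊗ G)) := by
    have h := mcls_mul (hL := hM) (hN := hN) hs (lift (snd G G) (fst G G))
    have h' := mcls_mul (hL := hM) (hN := hN) hs (𝟙 (G ⊗ G))
    rw [lift_fst, lift_snd] at h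
    rw [Category.id_comp, Category.id_comp] at h'
    rw [_root_.mul_comm (snd G G) (fst G G), ← h', mul_right_comm] at h
    exact mul_right_cancel (mul_right_cancel h)
  let w : (G ⊗ G).left ⟶ (A ⊗ A).left := j.hom ≫ (A ◁ a).left
  have hw1 : w ≫ (fst A A).left = (fst G G).left ≫ pullback.fst A.hom t := by
    show (j.hom ≫ (A ◁ a).left) ≫ _ = _
    rw [Category.assoc, ← Over.comp_left, whiskerLeft_fst]
    rw [← cancel_epi j.inv, Iso.inv_hom_id_assoc]
    exact hj1.symm
  have hw2 : w ≫ (snd A A).left = (snd G G).left ≫ pullback.fst A.hom t := by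
    show (j.hom ≫ (A ◁ a).left) ≫ _ = _
    rw [Category.assoc, ← Over.comp_left, whiskerLeft_snd, Over.comp_left, ha]
    rw [← cancel_epi j.inv, Iso.inv_hom_id_assoc]
    exact ((congrArg (· ≫ pullback.fst A.hom t) hj2).symm.trans (Category.assoc _ _ _))
  have hwswap : w ≫ (lift (snd A A) (fst A A)).left = (lift (snd G G) (fst G G)).left ≫ w := by
    apply pullback.hom_ext
    · refine (Category.assoc _ _ _).trans (Eq.trans ?_ (Category.assoc _ _ _).symm)
      refine (congrArg (w ≫ ·) (lift_left_fst (snd A A) (fst A A))).trans ?_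
      refine hw2.trans (Eq.trans ?_ (congrArg _ hw1.symm))
      rw [← Category.assoc, ← Over.comp_left, lift_fst]
    · refine (Category.assoc _ _ _).trans (Eq.trans ?_ (Category.assoc _ _ _).symm)
      refine (congrArg (w ≫ ·) (lift_left_snd (snd A A) (fst A A))).trans ?_
      refine hw1.trans (Eq.trans ?_ (congrArg _ hw2.symm))
      rw [← Category.assoc, ← Over.comp_left, lift_snd]
  have hQ : ev hξ (snd A A) (fst A A ≫ lam) = pb (lift (snd A A) (fst A A)) (corr hξ lam) :=
    (pb_corr hξ lam _ _).symm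
  apply Subtype.ext
  have hwP : PicF.pullCl w (corr hξ lam).1 = PicF.cl N := by
    rw [← pullCl_pullCl, ← PicGrp.pullHom_apply_val (A ◁ a).left (M2.pullMul _), hP, pullCl_pullCl,
      Iso.hom_inv_id]
    exact PicLoc.pullCl_id _
  have key : PicF.pullCl w (ev hξ (snd A A) (fst A A ≫ lam)).1 = PicF.cl N := by
    rw [hQ, PicGrp.pullHom_apply_val, pullCl_pullCl, hwswap, ← pullCl_pullCl, hwP]
    have h := congrArg Subtype.val hsymm
    simp only [mcls, PicGrp.pullHom_apply_val, PicGrp.cls_val, Over.id_left] at h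
    exact h.trans (PicLoc.pullCl_id _)
  rw [hP, PicGrp.pullHom_apply_val, ← key, pullCl_pullCl, Iso.inv_hom_id_assoc]

/-- The class of `(1, lam)` is symmetric when `lam` is a polarisation. -/
theorem corr_symm (hX : AbDual.IsDualAV Scheme.fppfPrecoverage A At φ) (hξ : AbDual.IsPoincareCl A At φ ξ)
    (lam : A ⟶ At) (hpol : AgPol.IsPolarization A At φ lam) :
    corr hξ lam = ev hξ (snd A A) (fst A A ≫ lam) := by
  haveI : IsMonHom lam := hpol.1
  haveI := PicSep22.geometricallyIntegral_of_smooth A.hom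
  haveI := AbRigid.geometricallyReduced_of_smooth A.hom
  haveI : LocallyOfFinitePresentation A.hom := inferInstance
  set P := corr hξ lam with hPdef
  set Q := ev hξ (snd A A) (fst A A ≫ lam) with hQdef
  have hP1 : ∀ {W : Over S} (b : W ⟶ A), pb (lift (1 : W ⟶ A) b) P = 1 := fun b => by
    rw [hPdef, pb_corr, ev_one_left]
  have hQe : ∀ {W : Over S} (x y : W ⟶ A), pb (lift x y) Q = ev hξ y (x ≫ lam) := fun x y => by
    rw [hQdef, pb_ev, lift_snd, lift_fst_assoc]
  have hPz : AbDual.IsPicZeroCl A.hom A P.1 := by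
    rw [hPdef, corr_val, PicGrp.pullHom_apply_val]
    exact picZero_whisker lam hξ.1
  have hQz : AbDual.IsPicZeroCl A.hom A Q.1 := picZero_of_slice Q fun {W} => by
    rw [show A ◁ (1 : W ⟶ A) = lift (fst A W) (1 : A ⊗ W ⟶ A) by
      apply CartesianMonoidalCategory.hom_ext <;> simp, hQe, ev_one_left]
  have hfib : ∀ s : S, ∀ a : Over.mk (pullback.fst A.hom (S.fromSpecResidueField s) ≫ A.hom) ⟶ A,
      a.left = pullback.fst A.hom (S.fromSpecResidueField s) → pb (A ◁ a) P = pb (A ◁ a) Q := by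
    intro s a ha
    let Ω := AlgebraicClosure (S.residueField s)
    let ι₀ : Spec (CommRingCat.of Ω) ⟶ Spec (S.residueField s) :=
      Spec.map (CommRingCat.ofHom (algebraMap (S.residueField s) Ω))
    let κs := S.fromSpecResidueField s
    let t : Spec (CommRingCat.of Ω) ⟶ S := ι₀ ≫ κs
    let aV : Over.mk (pullback.snd A.hom t ≫ t) ⟶ A := Over.homMk (pullback.fst A.hom t) pullback.condition
    let q₀ : pullback A.hom t ⟶ pullback A.hom κs := pullback.lift (pullback.fst _ _) (pullback.snd _ _ ≫ ι₀)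
      (by rw [Category.assoc]; exact pullback.condition)
    have hsq : IsPullback q₀ (pullback.snd A.hom t) (pullback.snd A.hom κs) ι₀ :=
      IsPullback.of_right (by rw [pullback.lift_fst]; exact IsPullback.of_hasPullback A.hom t)
        (pullback.lift_snd _ _ _) (IsPullback.of_hasPullback A.hom κs)
    haveI : Flat ι₀ := inferInstance
    haveI : Surjective ι₀ := inferInstance
    haveI : QuasiCompact ι₀ := inferInstance
    haveI : Flat q₀ := MorphismProperty.of_isPullback hsq.flip ‹Flat ι₀›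
    haveI : Surjective q₀ := MorphismProperty.of_isPullback hsq.flip ‹Surjective ι₀›
    haveI : QuasiCompact q₀ := MorphismProperty.of_isPullback hsq.flip ‹QuasiCompact ι₀›
    let q : Over.mk (pullback.snd A.hom t ≫ t) ⟶ Over.mk (pullback.fst A.hom κs ≫ A.hom) := Over.homMk q₀ (by
      show q₀ ≫ pullback.fst A.hom κs ≫ A.hom = pullback.snd A.hom t ≫ t
      rw [pullback.lift_fst_assoc, pullback.condition])
    have hqa : q ≫ a = aV := by
      apply Over.OverMorphism.ext
      show q₀ ≫ a.left = pullback.fst A.hom t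
      rw [ha, pullback.lift_fst]
    have hgeo := corr_symm_geometric hX hξ lam t (hpol.2 Ω t) aV rfl
    have hval : ∀ c : PicLoc.PicSet (A ⊗ A).left, (pb (A ◁ a) c).1 = PicF.pullCl (A ◁ a).left c.1 := fun c =>
      PicGrp.pullHom_apply_val ..
    have hφeq : a ≫ φ A P.1 = a ≫ φ A Q.1 := by
      apply Over.OverMorphism.ext
      rw [← cancel_epi q₀]
      show (q ≫ a ≫ φ A P.1).left = (q ≫ a ≫ φ A Q.1).left
      have e1 : ∀ z : A ⟶ At, q ≫ a ≫ z = aV ≫ z := fun z =>
        (Category.assoc q a z).symm.trans (congrArg (· ≫ z) hqa)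
      refine (congrArg Over.Hom.left (e1 _)).trans (Eq.trans ?_ (congrArg Over.Hom.left (e1 _)).symm)
      rw [← phi_natural hX aV hPz, ← phi_natural hX aV hQz,
        ← PicGrp.pullHom_apply_val (A ◁ aV).left (M2.pullMul _),
        ← PicGrp.pullHom_apply_val (A ◁ aV).left (M2.pullMul _)]
      exact congrArg (fun c : PicLoc.PicSet _ => (φ _ c.1).left) hgeo
    apply Subtype.ext
    refine KernelKL22.eq_of_phi hX (by rw [hval]; exact picZero_whisker a hPz)
      (by rw [hval]; exact picZero_whisker a hQz) ?_ ?_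
    · rw [hval, hval, phi_natural hX a hPz, phi_natural hX a hQz, hφeq]
    · have e : pb (lift (1 : _ ⟶ A) (𝟙 _)) (pb (A ◁ a) P) = pb (lift (1 : _ ⟶ A) (𝟙 _)) (pb (A ◁ a) Q) := by
        rw [pb_pb, pb_pb, lift_whiskerLeft, Category.id_comp, hP1, hQe, MonObj.one_comp, ev_one_right hX]
      have e' := congrArg Subtype.val e
      rwa [PicGrp.pullHom_apply_val, PicGrp.pullHom_apply_val] at e'
  set E : PicLoc.PicSet (A ⊗ A).left := P * Q⁻¹ with hEdef
  obtain ⟨Em, hEm, hEEm⟩ := PicGrp.exists_eq_cls E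
  let e : S ⟶ A.left := η[A].left
  have he : e ≫ A.hom = 𝟙 S := Over.w η[A]
  have hone : ∀ {W : Over S}, (1 : W ⟶ A).left = W.hom ≫ e := fun {W} => rfl
  let θ : pullback (pP A.hom A.hom) (𝟙 S) ⟶ (A ⊗ A).left := pullback.fst _ _
  haveI : IsIso θ := inferInstanceAs (IsIso (pullback.fst (pP A.hom A.hom) (𝟙 S)))
  have htriv : ∀ {W : Over S} (t : W ⟶ A ⊗ A), pb t E = 1 →
      IsTriv ((Scheme.Modules.pullback t.left).obj Em) := fun {W} t ht => by
    rw [hEEm, PicGrp.pullHom_cls, PicGrp.cls_eq_one_iff] at ht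
    exact ht
  have h₁ := htriv (lift (1 : A ⟶ A) (𝟙 A)) (by
    rw [hEdef, map_mul, map_inv, hP1, hQe, MonObj.one_comp, ev_one_right hX, inv_one, _root_.mul_one])
  have h₂ := htriv (lift (𝟙 A) (1 : A ⟶ A)) (by
    rw [hEdef, map_mul, map_inv, hPdef, pb_corr, MonObj.one_comp, ev_one_right hX, hQe, ev_one_left, inv_one,
      _root_.mul_one])
  let L' := (Scheme.Modules.pullback θ).obj Em
  have hτ : ∀ b, IsTriv ((Scheme.Modules.pullback (sliceJ A.hom A.hom (𝟙 S) e he e he b)).obj L') := by
    rintro (_ | _)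
    · let u : pullback (slX A.hom A.hom e he ≫ pP A.hom A.hom) (𝟙 S) ⟶ A.left := pullback.fst _ _
      refine (isTriv_comp_iff _ _ Em).2 (isTriv_of_eq ?_ ((isTriv_comp_iff u _ Em).1 (h₂.pullback u)))
      apply pullback.hom_ext <;> simp [u, θ, sliceJ, sliceT, pP, slX, hone]
    · let u : pullback (slY A.hom A.hom e he ≫ pP A.hom A.hom) (𝟙 S) ⟶ A.left := pullback.fst _ _
      refine (isTriv_comp_iff _ _ Em).2 (isTriv_of_eq ?_ ((isTriv_comp_iff u _ Em).1 (h₁.pullback u)))
      apply pullback.hom_ext <;> simp [u, θ, sliceJ, sliceT, pP, slY, hone]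
  have hL' : IsTriv L' := by
    refine cube_of_fibres A.hom A.hom (𝟙 S) e he e he (PicLoc.isInvertible_pullback _ hEm) hτ fun s => ?_
    let κs := S.fromSpecResidueField s
    let V : Over S := Over.mk (pullback.fst A.hom κs ≫ A.hom)
    let a : V ⟶ A := Over.homMk (pullback.fst A.hom κs) rfl
    have hm : pb (A ◁ a) E = 1 := by
      rw [hEdef, map_mul, map_inv, hfib s a rfl, mul_inv_cancel]
    let π := Seesaw22.proj A.hom A.hom (𝟙 S)
    let b₂ : π.fiber s ⟶ V.left := pullback.lift (π.fiberι s ≫ θ ≫ pullback.snd A.hom A.hom)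
      (π.fiberToSpecResidueField s) (by
        have hc1 : π.fiberι s ≫ π = π.fiberToSpecResidueField s ≫ κs := pullback.condition
        rw [← hc1, Category.assoc, Category.assoc]
        congr 1
        show pullback.fst _ _ ≫ pullback.snd A.hom A.hom ≫ A.hom = pullback.snd (pP A.hom A.hom) (𝟙 S)
        rw [← pullback.condition (f := A.hom) (g := A.hom)]
        exact pullback.condition.trans (Category.comp_id _))
    let b : π.fiber s ⟶ (A ⊗ V).left := pullback.lift (π.fiberι s ≫ θ ≫ pullback.fst A.hom A.hom) b₂ (by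
      show _ = b₂ ≫ pullback.fst A.hom κs ≫ A.hom
      rw [pullback.lift_fst_assoc, Category.assoc, Category.assoc, Category.assoc, Category.assoc]
      exact congrArg (fun z => π.fiberι s ≫ θ ≫ z) pullback.condition)
    refine (isTriv_comp_iff _ _ Em).2 (isTriv_of_eq ?_ ((isTriv_comp_iff b _ Em).1 ((htriv _ hm).pullback b)))
    apply pullback.hom_ext
    · simp [b, b₂, a, θ, π]
    · simp [b, b₂, a, θ, π]
  rw [← mul_inv_eq_one, ← hEdef, hEEm, PicGrp.cls_eq_one_iff]
  obtain ⟨i⟩ := isTriv_of_eq (IsIso.inv_hom_id θ) ((isTriv_comp_iff _ _ Em).1 (hL'.pullback (inv θ)))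
  exact ⟨((Scheme.Modules.pullbackId _).app Em).symm ≪≫ i⟩

end Groth.Agent.AgPol22

end
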